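import Cfsg.Agent.Lib.U34Char.Five.Mult
import Cfsg.Agent.Lib.U34Char.Arith
import Cfsg.Agent.Lib.CharTheory.PowerMap
import Cfsg.Agent.Lib.U34Char.Three.Chars

/-!
The odd core of the centralizer of an involution is trivial.
-/

set_option autoImplicit false
set_option linter.unusedSectionVars false
set_option linter.style.haveILetI false

namespace CfsgLib.U34Char

open Cfsg CfsgLib CfsgLib.CharTheory CfsgLib.Blocks CfsgLib.HallE8 CfsgLib.ZCReduction CfsgLib.PiClosedTwo
open scoped ComplexConjugate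

universe u

/-- Doubling on five letters. -/
def dblFive : Fin 5 ≃ Fin 5 := ⟨fun j => 2 * j, fun j => 3 * j, by decide, by decide⟩

theorem pow_congr_five {ω : ℂ} (hω : ω ^ 5 = 1) {a b : ℕ} (h : a % 5 = b % 5) : ω ^ a = ω ^ b := by
  rw [← Nat.mod_add_div a 5, ← Nat.mod_add_div b 5, pow_add, pow_add, pow_mul, pow_mul, hω, one_pow, one_pow, h]

theorem sum_root_five {ω : ℂ} (hω : IsPrimitiveRoot ω 5) (n : ℕ) :
    ∑ j : Fin 5, ω ^ ((j : ℕ) * n) = if 5 ∣ n then 5 else 0 := by
  have h1 : ∑ j : Fin 5, ω ^ ((j : ℕ) * n) = ∑ m ∈ Finset.range 5, (ω ^ n) ^ m := by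
    rw [Fin.sum_univ_eq_sum_range (fun j => ω ^ (j * n))]
    exact Finset.sum_congr rfl fun m _ => by rw [← pow_mul, mul_comm]
  rw [h1, sum_pow_root (by rw [← pow_mul, mul_comm, pow_mul, hω.pow_eq_one, one_pow])]
  refine if_congr (hω.pow_eq_one_iff_dvd n) ?_ rfl
  norm_num

variable {G : Type u} [Group G] [Fintype G]

theorem exists_galois_exponent (h2 : 64 ∣ Nat.card G) (h5 : 5 ∣ Nat.card G) :
    ∃ m : ℕ, m.Coprime (Nat.card G) ∧ m % 5 = 2 ∧ m % 4 = 1 := by
  obtain ⟨v, r, hr, hv⟩ := Nat.exists_eq_pow_mul_and_not_dvd (Nat.card_pos (α := G)).ne' 5 (by norm_num)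
  have hv0 : v ≠ 0 := fun e => hr (by
    have h5' := h5
    rwa [hv, e, pow_zero, one_mul] at h5')
  have hc5 : Nat.Coprime 5 r := Nat.prime_five.coprime_iff_not_dvd.2 hr
  obtain ⟨m, hm1, hm2⟩ := Nat.chineseRemainder (hc5.pow_left v) 2 1
  have hm5 : m % 5 = 2 := by
    have := (Nat.ModEq.of_dvd (dvd_pow_self 5 hv0) hm1 : m ≡ 2 [MOD 5])
    exact this
  refine ⟨m, ?_, hm5, ?_⟩
  · rw [hv]
    refine Nat.Coprime.mul_right (Nat.Coprime.pow_right v ?_) ?_
    · exact (Nat.prime_five.coprime_iff_not_dvd.2 fun hd => by obtain ⟨c, rfl⟩ := hd; omega).symm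
    · refine (Nat.coprime_comm.1 ?_)
      rw [Nat.Coprime, Nat.gcd_rec, show m % r = 1 % r from hm2]
      rw [← Nat.gcd_rec]
      exact Nat.coprime_one_right r
  · have h64r : 64 ∣ r := by
      have h2' := h2
      rw [hv] at h2'
      exact ((by norm_num : Nat.Coprime 64 5).pow_right v).dvd_of_dvd_mul_left h2'
    exact (Nat.ModEq.of_dvd ((by norm_num : 4 ∣ 64).trans h64r) hm2 : m ≡ 1 [MOD 4])

namespace Five

variable {S : Sylow 2 G} {f z : G}

/-- The core of the centralizer of an involution is trivial. -/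
theorem theta_eq_bot (h : Conf S) (hf : Five S f) (hz : z ∈ four S) (hz1 : z ≠ 1) : theta z = ⊥ := by
  classical
  by_contra hK
  obtain ⟨M, hM⟩ := ZStar.exists_isPModular Nat.prime_two
  obtain ⟨u, hu, huV⟩ := h.exists_noncentral
  set B := principalBlock M G with hB
  haveI : Fintype (theta z) := Fintype.ofFinite _
  let ω : ℂ := Complex.exp (2 * Real.pi * Complex.I / (5 : ℕ))
  have hω : IsPrimitiveRoot ω 5 := Complex.isPrimitiveRoot_exp 5 (by norm_num)
  have hω5 : ω ^ 5 = 1 := hω.pow_eq_one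
  have hωc : ∀ n : ℕ, conj (ω ^ n) = ω ^ (4 * n) := by
    intro n
    rw [map_pow, ← Complex.inv_eq_conj (Complex.norm_eq_one_of_pow_eq_one hω5 (by norm_num)), pow_mul,
      ← eq_inv_of_mul_eq_one_left (show ω ^ 4 * ω = 1 by rw [← pow_succ, hω5])]
  let I := {χ : IrrCharacter G // χ ∈ B}
  haveI : Fintype I := Fintype.ofFinite _
  have hsum : ∀ F : IrrCharacter G → ℂ, ∑ i : I, F i.1 = ∑ χ : IrrCharacter G, ind B χ * F χ := by
    intro F
    rw [← Finset.sum_filter_of_ne (p := fun χ => χ ∈ B) (s := Finset.univ)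
      (f := fun χ : IrrCharacter G => ind B χ * F χ) (fun χ _ hne => by
        by_contra hχ
        exact hne (by rw [ind_of_notMem hχ, zero_mul])),
      Finset.sum_congr rfl fun χ hχ => show ind B χ * F χ = F χ by
        rw [ind_of_mem (Finset.mem_filter.1 hχ).2, one_mul]]
    exact (Finset.sum_subtype _ (fun χ => by simp) _).symm
  choose P Q R d P' Q' R' m hP hQ hR hP' hQ' hR' hd hm using fun i : I => mult h hf hM hz hz1 hu huV i.2
  choose E hE using fun (i : I) (k : Fin 5) => colE_int h hf hM hz hz1 hω5 (k : ℕ) i.2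
  let D : I → ℤ := fun i => (charDegree (i.1 : G → ℂ) : ℤ)
  let zz : I → ℤ := fun i => D i - 16 * P i
  let uu : I → ℤ := fun i => (R i : ℤ) - Q i
  let a : I → ℤ := fun i => -uu i
  let b : Fin 5 → I → ℤ := fun k i => E i k - (4 * (Q i : ℤ) - P i)
  have hDc : ∀ i, (D i : ℂ) = (i.1 : G → ℂ) 1 := fun i => by
    simp only [D]; push_cast; exact irr_charDegree_cast i.1
  have hz' : ∀ i, (zz i : ℂ) = (i.1 : G → ℂ) z := fun i => by
    simp only [zz, D]; push_cast; linear_combination hP i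
  have hu' : ∀ i, (uu i : ℂ) = (i.1 : G → ℂ) u := fun i => by
    simp only [uu]; push_cast; linear_combination (-1 / 64 : ℂ) * (hR i) + (1 / 64 : ℂ) * (hQ i)
  have ha : ∀ i, (a i : ℂ) = -(i.1 : G → ℂ) u := fun i => by
    simp only [a]; push_cast; rw [hu']
  have hb : ∀ k i, (b k i : ℂ) =
      colE ω f z (k : ℕ) (i.1 : G → ℂ) - ((i.1 : G → ℂ) z - (i.1 : G → ℂ) u) / 4 := fun k i => by
    simp only [b]; push_cast; rw [← hE i k]
    linear_combination (1 / 16 : ℂ) * hQ i - (1 / 16 : ℂ) * hP i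
  have hX0 : ∀ i : I, (i.1 : G → ℂ) (z * f ^ ((0 : Fin 5) : ℕ)) = (i.1 : G → ℂ) z := fun i => by simp
  have hEsum : ∀ i : I, ∑ k : Fin 5, colE ω f z (k : ℕ) (i.1 : G → ℂ) = (i.1 : G → ℂ) z := by
    intro i
    simp only [colE, ← Finset.mul_sum]
    rw [Finset.sum_comm]
    simp only [← Finset.sum_mul]
    rw [Finset.sum_eq_single (0 : Fin 5)]
    · simp
    · intro j _ hj
      rw [Finset.sum_congr rfl fun k _ => by rw [mul_comm (j : ℕ) (k : ℕ)], sum_root_five hω,
        if_neg (fun hd => hj (Fin.ext (Nat.eq_zero_of_dvd_of_lt hd j.2))), zero_mul]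
    · exact fun h => absurd (Finset.mem_univ _) h
  have htz : ∀ i, tz (a i) (b 0 i) (b 1 i + b 3 i + b 4 i + b 2 i) = zz i := by
    intro i
    refine Int.cast_injective (α := ℂ) ?_
    have := hEsum i
    simp only [Fin.sum_univ_five] at this
    simp only [tz]
    push_cast
    rw [ha, hb, hb, hb, hb, hb, hz']
    linear_combination (-4 : ℂ) * this
  -- the columns
  let X : Fin 5 → I → ℂ := fun j i => (i.1 : G → ℂ) (z * f ^ (j : ℕ))
  let U : I → ℂ := fun i => (i.1 : G → ℂ) u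
  have hXX : ∀ j k : Fin 5, ∑ i, X j i * conj (X k i) = if j = k then (if j = 0 then 320 else 20) else 0 := by
    intro j k
    rw [hsum fun χ => (χ : G → ℂ) (z * f ^ (j : ℕ)) * conj ((χ : G → ℂ) (z * f ^ (k : ℕ)))]
    simp only [← mul_assoc]
    rw [orth_cols h hf hM hz hz1 j.2 k.2]
    simp only [Fin.ext_iff, Fin.val_zero]
  have hXU : ∀ j : Fin 5, ∑ i, X j i * conj (U i) = 0 := by
    intro j
    rw [hsum fun χ => (χ : G → ℂ) (z * f ^ (j : ℕ)) * conj ((χ : G → ℂ) u)]
    simp only [← mul_assoc]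
    exact orth_mixed h hf hM hz hz1 j hu huV
  have hUX : ∀ j : Fin 5, ∑ i, U i * conj (X j i) = 0 := by
    intro j
    have := congrArg conj (hXU j)
    rw [map_sum, map_zero] at this
    rw [← this]
    exact Finset.sum_congr rfl fun i _ => by rw [map_mul, Complex.conj_conj, mul_comm]
  have hUU : ∑ i, U i * conj (U i) = 16 := by
    rw [hsum fun χ => (χ : G → ℂ) u * conj ((χ : G → ℂ) u)]
    simp only [← mul_assoc]
    exact orth_noncentral h hM hu huV
  have hXD : ∀ j : Fin 5, ∑ i, X j i * (D i : ℂ) = 0 := by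
    intro j
    simp only [hDc]
    rw [hsum fun χ => (χ : G → ℂ) (z * f ^ (j : ℕ)) * (χ : G → ℂ) 1]
    simp only [← mul_assoc]
    exact orth_deg h hf hM hz hz1 j
  have hUD : ∑ i, U i * (D i : ℂ) = 0 := by
    simp only [hDc]
    rw [hsum fun χ => (χ : G → ℂ) u * (χ : G → ℂ) 1]
    simp only [← mul_assoc]
    exact orth_noncentral_deg h hM hu huV
  let EE : Fin 5 → I → ℂ := fun k i => colE ω f z (k : ℕ) (i.1 : G → ℂ)
  have hEE : ∀ k i, EE k i = (5 : ℂ)⁻¹ * ∑ j : Fin 5, ω ^ ((j : ℕ) * (k : ℕ)) * X j i := fun k i => rfl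
  have hb' : ∀ k i, (b k i : ℂ) = EE k i - (X 0 i - U i) / 4 := fun k i => by
    rw [hb]; simp only [EE, X, U, Fin.val_zero, pow_zero, mul_one]
  have hcb : ∀ k i, conj (b k i : ℂ) = (b k i : ℂ) := fun k i => map_intCast _ _
  have hEX : ∀ (k : Fin 5) (j : Fin 5), ∑ i, EE k i * conj (X j i) =
      (5 : ℂ)⁻¹ * (ω ^ ((j : ℕ) * (k : ℕ)) * (if j = 0 then 320 else 20)) := by
    intro k j
    simp only [hEE, Finset.mul_sum, Finset.sum_mul]
    rw [Finset.sum_comm, Finset.sum_eq_single j]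
    · simp only [mul_assoc, ← Finset.mul_sum, hXX, if_pos]
    · intro j' _ hj'
      simp only [mul_assoc, ← Finset.mul_sum, hXX, if_neg hj', mul_zero]
    · exact fun h => absurd (Finset.mem_univ _) h
  have hEU : ∀ k : Fin 5, ∑ i, EE k i * conj (U i) = 0 := by
    intro k
    simp only [hEE, Finset.mul_sum, Finset.sum_mul]
    rw [Finset.sum_comm]
    exact Finset.sum_eq_zero fun j _ => by simp only [mul_assoc, ← Finset.mul_sum, hXU, mul_zero]
  have hEEk : ∀ k l : Fin 5, ∑ i, EE k i * conj (EE l i) = if k = l then 16 else 12 := by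
    intro k l
    have e1 : ∀ i, EE k i * conj (EE l i) =
        ∑ j : Fin 5, (5 : ℂ)⁻¹ * ω ^ (4 * ((j : ℕ) * (l : ℕ))) * (EE k i * conj (X j i)) := by
      intro i
      rw [hEE l i, map_mul, map_sum, map_inv₀, map_ofNat, Finset.mul_sum, Finset.mul_sum]
      refine Finset.sum_congr rfl fun j _ => ?_
      rw [map_mul, hωc]; ring
    rw [Finset.sum_congr rfl fun i _ => e1 i, Finset.sum_comm]
    simp only [← Finset.mul_sum, hEX]
    have e2 : ∀ j : Fin 5, (5 : ℂ)⁻¹ * ω ^ (4 * ((j : ℕ) * (l : ℕ))) *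
        ((5 : ℂ)⁻¹ * (ω ^ ((j : ℕ) * (k : ℕ)) * (if j = 0 then (320 : ℂ) else 20))) =
        (4 / 5 : ℂ) * ω ^ ((j : ℕ) * ((k : ℕ) + 4 * (l : ℕ))) + (if j = 0 then 12 else 0) := by
      intro j
      split_ifs with hj
      · subst hj; norm_num
      · rw [mul_add, pow_add, show (j : ℕ) * (4 * (l : ℕ)) = 4 * ((j : ℕ) * (l : ℕ)) by ring]; ring
    rw [Finset.sum_congr rfl fun j _ => e2 j, Finset.sum_add_distrib, ← Finset.mul_sum, sum_root_five hω,
      Finset.sum_ite_eq', if_pos (Finset.mem_univ _)]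
    have hk := k.2
    have hl := l.2
    by_cases hkl : k = l
    · subst hkl
      rw [if_pos rfl, if_pos ⟨(k : ℕ), by ring⟩]; norm_num
    · rw [if_neg hkl, if_neg (fun ⟨c, hc⟩ => hkl (Fin.ext (by omega)))]; norm_num
  have hXE : ∀ (l : Fin 5), ∑ i, X 0 i * conj (EE l i) = 64 := by
    intro l
    have h1 := congrArg conj (hEX l 0)
    rw [map_sum] at h1
    rw [Finset.sum_congr rfl fun i _ => show X 0 i * conj (EE l i) = conj (EE l i * conj (X 0 i)) by
      rw [map_mul, Complex.conj_conj, mul_comm], h1]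
    simp only [Fin.val_zero, zero_mul, pow_zero, if_pos, one_mul]
    rw [show (5 : ℂ)⁻¹ * 320 = ((64 : ℕ) : ℂ) by norm_num, map_natCast, Nat.cast_ofNat]
  have hUE : ∀ l : Fin 5, ∑ i, U i * conj (EE l i) = 0 := by
    intro l
    have h1 := congrArg conj (hEU l)
    rw [map_sum, map_zero] at h1
    rw [← h1]
    exact Finset.sum_congr rfl fun i _ => by rw [map_mul, Complex.conj_conj, mul_comm]
  have hbb : ∀ k l, ((∑ i, b k i * b l i : ℤ) : ℂ) = if k = l then 5 else 1 := by
    intro k l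
    push_cast
    rw [Finset.sum_congr rfl fun i _ => show (b k i : ℂ) * (b l i : ℂ) =
      EE k i * conj (EE l i) - (4 : ℂ)⁻¹ * (EE k i * conj (X 0 i)) + (4 : ℂ)⁻¹ * (EE k i * conj (U i))
        - (4 : ℂ)⁻¹ * (X 0 i * conj (EE l i)) + (4 : ℂ)⁻¹ * (U i * conj (EE l i))
        + (16 : ℂ)⁻¹ * (X 0 i * conj (X 0 i)) - (16 : ℂ)⁻¹ * (X 0 i * conj (U i))
        - (16 : ℂ)⁻¹ * (U i * conj (X 0 i)) + (16 : ℂ)⁻¹ * (U i * conj (U i)) by
      conv_lhs => rw [← hcb l i]
      rw [hb', hb', map_sub, map_div₀, map_sub, map_ofNat]; ring]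
    simp only [Finset.sum_add_distrib, Finset.sum_sub_distrib, ← Finset.mul_sum, hEEk, hEX, hEU, hXE, hUE, hXX,
      hXU, hUX, hUU]
    simp only [if_pos, Fin.val_zero, zero_mul, pow_zero, one_mul]
    by_cases hkl : k = l <;> simp [hkl] <;> norm_num
  -- the trivial character
  let e : I := ⟨oneIrr G, oneIrr_mem hM⟩
  have hone : ∀ g : G, (e.1 : G → ℂ) g = 1 := fun g => rfl
  have hDe : D e = 1 := Int.cast_injective (α := ℂ) (by rw [hDc, hone, Int.cast_one])
  -- the Galois automorphism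
  obtain ⟨n, hn, hn5, hn4⟩ := exists_galois_exponent (G := G)
    (h.hs.card ▸ Subgroup.card_subgroup_dvd_card (S : Subgroup G)) ((five_dvd h hf).trans (orderOf_dvd_natCard f))
  let σ0 : I → I := fun i => ⟨powIrr hn i.1, CfsgLib.KFactThree.powIrr_principal hn i.2⟩
  have hσ0 : Function.Injective σ0 := fun i j eij =>
    Subtype.ext ((powIrr_bijective hn).1 (congrArg Subtype.val eij))
  let σ : Equiv.Perm I := Equiv.ofBijective σ0 (Finite.injective_iff_bijective.1 hσ0)
  have hσval : ∀ i g, ((σ i).1 : G → ℂ) g = (i.1 : G → ℂ) (g ^ n) := fun i g => rfl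
  have hzn : z ^ n = z := by
    rw [← Nat.mod_add_div n 4, hn4, pow_add, pow_one, pow_mul,
      show z ^ 4 = (z * z) * (z * z) by simp [pow_succ, mul_assoc], h.four_sq hz, one_mul, one_pow, mul_one]
  have hun : u ^ n = u := by
    rw [← Nat.mod_add_div n 4, hn4, pow_add, pow_one, pow_mul,
      show u ^ 4 = (u * u) * (u * u) by simp [pow_succ, mul_assoc], h.four_sq (h.sq_mem hu), one_pow, mul_one]
  have hσX : ∀ (i : I) (j : Fin 5), X j (σ i) = X (dblFive j) i := by
    intro i j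
    show ((σ i).1 : G → ℂ) (z * f ^ (j : ℕ)) = (i.1 : G → ℂ) (z * f ^ ((dblFive j : Fin 5) : ℕ))
    rw [hσval, (show Commute z (f ^ (j : ℕ)) from (hf.comm_four _ hz).symm).mul_pow, hzn, ← pow_mul,
      value_mod h hf hM hz hz1 _ i.2]
    have e : (j : ℕ) * n % 5 = ((dblFive j : Fin 5) : ℕ) := by
      show (j : ℕ) * n % 5 = ((2 * j : Fin 5) : ℕ)
      rw [Nat.mul_mod, hn5, Fin.val_mul]
      have := j.2
      show (j : ℕ) % 5 * 2 % 5 = 2 * (j : ℕ) % 5
      omega
    rw [e]
  have hσU : ∀ i, U (σ i) = U i := fun i => by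
    show ((σ i).1 : G → ℂ) u = _
    rw [hσval, hun]
  have hσD : ∀ i, D (σ i) = D i := fun i => by
    show (charDegree ((σ i).1 : G → ℂ) : ℤ) = _
    exact congrArg Nat.cast (CfsgLib.KFactThree.powIrr_charDegree hn i.1)
  have hσa : ∀ i, a (σ i) = a i := fun i => Int.cast_injective (α := ℂ) (by
    rw [ha, ha]; exact congrArg Neg.neg (hσU i))
  have hσE : ∀ (k : Fin 5) i, EE k (σ i) = EE (3 * k) i := by
    intro k i
    rw [hEE, hEE]
    congr 1
    refine Fintype.sum_equiv dblFive _ _ fun j => ?_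
    rw [hσX]
    congr 1
    refine pow_congr_five hω5 ?_
    show (j : ℕ) * (k : ℕ) % 5 = ((2 * j : Fin 5) : ℕ) * ((3 * k : Fin 5) : ℕ) % 5
    revert j k; decide
  have hσb : ∀ (k : Fin 5) i, b k (σ i) = b (3 * k) i := fun k i => Int.cast_injective (α := ℂ) (by
    rw [hb', hb', hσE, hσU, hσX, show dblFive 0 = 0 from rfl])
  -- structure constants
  let Z : I → ℂ := fun i => (i.1 : G → ℂ) z * ((i.1 : G → ℂ) z / (i.1 : G → ℂ) 1)
  have hSQU : ∑ i, conj (U i) * Z i = 0 := by
    rw [hsum fun χ => conj ((χ : G → ℂ) u) * ((χ : G → ℂ) z * ((χ : G → ℂ) z / (χ : G → ℂ) 1))]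
    simp only [← mul_assoc]
    have := square_noncentral h hM hu huV (h.four_sq hz)
    simp only [← mul_assoc] at this
    exact this
  have hSQX : ∀ j : Fin 5, j ≠ 0 → ∑ i, conj (X j i) * Z i = 0 := by
    intro j hj
    rw [hsum fun χ => conj ((χ : G → ℂ) (z * f ^ (j : ℕ))) * ((χ : G → ℂ) z * ((χ : G → ℂ) z / (χ : G → ℂ) 1))]
    simp only [← mul_assoc]
    have := square_zero h hf hM hz hz1 (fun e => hj (Fin.ext e)) j.2
    simp only [← mul_assoc] at this
    exact this
  obtain ⟨r, hr0, hr⟩ := square_pos h hf hM hz hz1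
  have hSQ0 : ∑ i, conj (X 0 i) * Z i = (r : ℂ) := by
    show ∑ i : I, conj ((i.1 : G → ℂ) (z * f ^ 0)) *
      ((i.1 : G → ℂ) z * ((i.1 : G → ℂ) z / (i.1 : G → ℂ) 1)) = (r : ℂ)
    rw [hsum fun χ => conj ((χ : G → ℂ) (z * f ^ 0)) * ((χ : G → ℂ) z * ((χ : G → ℂ) z / (χ : G → ℂ) 1))]
    simp only [← mul_assoc]
    simp only [← mul_assoc] at hr
    exact hr
  have hSQE : ∀ k : Fin 5, ∑ i, conj (EE k i) * Z i = (5 : ℂ)⁻¹ * (r : ℂ) := by
    intro k
    simp only [hEE, map_mul, map_sum, map_inv₀, map_ofNat, Finset.mul_sum, Finset.sum_mul]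
    rw [Finset.sum_comm, Finset.sum_eq_single (0 : Fin 5)]
    · simp only [mul_assoc, ← Finset.mul_sum, hSQ0]
      simp
    · intro j _ hj
      simp only [mul_assoc, ← Finset.mul_sum, hSQX j hj, mul_zero]
    · exact fun h => absurd (Finset.mem_univ _) h
  have hterm : ∀ (x : ℚ) i, ((x * (tz (a i) (b 0 i) (b 1 i + b 3 i + b 4 i + b 2 i) : ℚ) ^ 2 / (D i : ℚ) : ℚ) : ℂ)
      = (x : ℂ) * Z i := by
    intro x i
    rw [htz]
    push_cast
    rw [hz', hDc]
    show (x : ℂ) * (i.1 : G → ℂ) z ^ 2 / (i.1 : G → ℂ) 1 = _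
    simp only [Z]
    ring
  have hSb : ∀ k : Fin 5, ∑ i, (b k i : ℂ) * Z i = -(r : ℂ) / 20 := by
    intro k
    rw [Finset.sum_congr rfl fun i _ => show (b k i : ℂ) * Z i =
      conj (EE k i) * Z i - (4 : ℂ)⁻¹ * (conj (X 0 i) * Z i) + (4 : ℂ)⁻¹ * (conj (U i) * Z i) by
        conv_lhs => rw [← hcb k i]
        rw [hb', map_sub, map_div₀, map_sub, map_ofNat]; ring]
    rw [Finset.sum_add_distrib, Finset.sum_sub_distrib, ← Finset.mul_sum, ← Finset.mul_sum, hSQE, hSQ0, hSQU]
    ring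
  refine Table.false (I := I)
    { e := e, a := a, b := b, D := D, d := fun i => (d i : ℤ), σ := σ
      ae := Int.cast_injective (α := ℂ) (by rw [ha, hone]; simp)
      be := fun k => Int.cast_injective (α := ℂ) (by
        rw [hb, hone, hone]
        simp only [colE, hone, mul_one, sub_self, zero_div, sub_zero]
        rw [sum_root_five hω]
        have hk := k.2
        by_cases hk0 : k = 0
        · subst hk0; norm_num
        · rw [if_neg (fun hd => hk0 (Fin.ext (Nat.eq_zero_of_dvd_of_lt hd hk))), if_neg hk0]; simp)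
      De := hDe
      σe := Subtype.ext (Subtype.ext (funext fun g => rfl))
      σa := hσa
      σD := hσD
      σb0 := fun i => hσb 0 i
      σb1 := fun i => hσb 1 i
      σb3 := fun i => hσb 3 i
      σb4 := fun i => hσb 4 i
      σb2 := fun i => hσb 2 i
      aa := Int.cast_injective (α := ℂ) (by
        push_cast
        rw [Finset.sum_congr rfl fun i _ => show (a i : ℂ) * (a i : ℂ) = U i * conj (U i) by
          rw [ha, show conj (U i) = U i by rw [show U i = (uu i : ℂ) from (hu' i).symm, map_intCast]]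
          simp only [U]; ring]
        exact hUU)
      bb := fun k => Int.cast_injective (α := ℂ) (by rw [hbb, if_pos rfl]; norm_num)
      bk := fun k l hkl => Int.cast_injective (α := ℂ) (by rw [hbb, if_neg hkl]; norm_num)
      ab := fun k => Int.cast_injective (α := ℂ) (by
        push_cast
        rw [Finset.sum_congr rfl fun i _ => show (a i : ℂ) * (b k i : ℂ) =
          -(U i * conj (EE k i)) + (4 : ℂ)⁻¹ * (U i * conj (X 0 i)) - (4 : ℂ)⁻¹ * (U i * conj (U i)) by
            conv_lhs => rw [← hcb k i]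
            rw [ha, hb', map_sub, map_div₀, map_sub, map_ofNat]; simp only [U]; ring]
        rw [Finset.sum_sub_distrib, Finset.sum_add_distrib, Finset.sum_neg_distrib, ← Finset.mul_sum,
          ← Finset.mul_sum, hUE, hUX, hUU]
        norm_num)
      adeg := Int.cast_injective (α := ℂ) (by
        push_cast
        rw [Finset.sum_congr rfl fun i _ => show (a i : ℂ) * (D i : ℂ) = -(U i * (D i : ℂ)) by rw [ha]; simp only [U]; ring,
          Finset.sum_neg_distrib, hUD, neg_zero])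
      bdeg := fun k => Int.cast_injective (α := ℂ) (by
        push_cast
        rw [Finset.sum_congr rfl fun i _ => show (b k i : ℂ) * (D i : ℂ) =
          ∑ j : Fin 5, (5 : ℂ)⁻¹ * ω ^ ((j : ℕ) * (k : ℕ)) * (X j i * (D i : ℂ)) -
            (4 : ℂ)⁻¹ * (X 0 i * (D i : ℂ)) + (4 : ℂ)⁻¹ * (U i * (D i : ℂ)) by
            rw [hb', hEE, sub_mul, Finset.mul_sum, Finset.sum_mul]
            simp only [mul_assoc]
            ring]
        rw [Finset.sum_add_distrib, Finset.sum_sub_distrib, Finset.sum_comm]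
        simp only [← Finset.mul_sum, hXD, hUD, mul_zero, Finset.sum_const_zero]
        ring)
      bound := fun i hi _ => ?_
      asq := Rat.cast_injective (α := ℂ) (by
        rw [Rat.cast_sum, Finset.sum_congr rfl fun i _ => hterm (a i : ℚ) i, Rat.cast_zero]
        rw [Finset.sum_congr rfl fun i _ => show ((a i : ℚ) : ℂ) * Z i = -(conj (U i) * Z i) by
          rw [Rat.cast_intCast, show conj (U i) = U i by rw [show U i = (uu i : ℂ) from (hu' i).symm, map_intCast], ha]
          simp only [U]; ring]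
        rw [Finset.sum_neg_distrib, hSQU, neg_zero])
      bsq := fun k => Rat.cast_injective (α := ℂ) (by
        rw [Rat.cast_sum, Finset.sum_congr rfl fun i _ => hterm ((b k i : ℚ) - b 0 i) i, Rat.cast_zero]
        rw [Finset.sum_congr rfl fun i _ => show (((b k i : ℚ) - (b 0 i : ℚ) : ℚ) : ℂ) * Z i =
          (b k i : ℂ) * Z i - (b 0 i : ℂ) * Z i by push_cast; ring, Finset.sum_sub_distrib, hSb, hSb, sub_self])
      neg := ?_ }
  · intro z0
    have hz0 : z0 = zz i := htz i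
    have hne : i.1 ≠ oneIrr G := fun e0 => hi (Subtype.ext e0)
    have hm0 := hm i hne hK
    have e1 : (d i : ℤ) - zz i = 16 * P' i := Int.cast_injective (α := ℂ) (by
      push_cast; rw [hz']; exact hP' i)
    have e2 : (d i : ℤ) + 3 * zz i + 4 * a i = 64 * Q' i := Int.cast_injective (α := ℂ) (by
      push_cast; rw [hz', ha]; linear_combination hQ' i)
    have e3 : (d i : ℤ) + 3 * zz i - 60 * a i = 64 * R' i := Int.cast_injective (α := ℂ) (by
      push_cast; rw [hz', ha]; linear_combination hR' i)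
    have e4 : D i = (d i : ℤ) + 64 * m i := by
      simp only [D]; rw [hd i]; push_cast; ring
    rw [hz0]
    refine ⟨Int.natCast_nonneg _, ?_, ⟨m i, by omega⟩, ?_, ?_, ?_, ?_, ⟨R' i, e3⟩⟩ <;> omega
  · have h1 : ((∑ i, (b 0 i : ℚ) * (tz (a i) (b 0 i) (b 1 i + b 3 i + b 4 i + b 2 i) : ℚ) ^ 2 / D i : ℚ) : ℂ) =
        ((-r / 20 : ℝ) : ℂ) := by
      rw [Rat.cast_sum, Finset.sum_congr rfl fun i _ => hterm (b 0 i : ℚ) i]
      simp only [Rat.cast_intCast]
      rw [hSb]
      push_cast; ring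
    have h2 : ((∑ i, (b 0 i : ℚ) * (tz (a i) (b 0 i) (b 1 i + b 3 i + b 4 i + b 2 i) : ℚ) ^ 2 / D i : ℚ) : ℝ) =
        (-r / 20 : ℝ) := Complex.ofReal_injective (by rw [← h1, Complex.ofReal_ratCast])
    refine (Rat.cast_lt (K := ℝ)).1 ?_
    rw [h2, Rat.cast_zero]
    linarith

end Five

namespace Conf

variable {S : Sylow 2 G}

/-- **The structure of the centralizers of involutions.** -/
theorem exists_five (h : Conf S) : ∃ f, Five S f ∧ ∀ z ∈ four S, z ≠ 1 → theta z = ⊥ := by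
  obtain ⟨f, hf⟩ := h.inner_or_five.resolve_left h.not_inner
  exact ⟨f, hf, fun z hz hz1 => Five.theta_eq_bot h hf hz hz1⟩

end Conf

end CfsgLib.U34Char
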