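import Cfsg.Agent.Lib.U34Char.Auto
import Cfsg.Agent.Lib.CharTheory.OddBasics

/-!
The centralizer of an involution when an element of order five modulo the core acts on the Sylow subgroup:
fusion, the odd core and the counts behind the orthogonality relations.
-/

set_option autoImplicit false
set_option linter.unusedSectionVars false
set_option linter.style.haveILetI false

namespace CfsgLib.U34Char

open Subgroup Cfsg CfsgLib.HallE8 CfsgLib.ZCReduction CfsgLib.PiClosedTwo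
open scoped commutatorElement

universe u

variable {G : Type u} [Group G] [Finite G]

/-- The core of the centralizer of `z` extended by `f`. -/
def oddGrp (z f : G) : Subgroup G := theta z ⊔ zpowers f

namespace Five

variable {S : Sylow 2 G} {f z : G}

theorem comm_four (hf : Five S f) (i : ℕ) {v : G} (hv : v ∈ four S) : f ^ i * v = v * f ^ i :=
  (mem_centralizer_iff.mp (pow_mem hf.mem.2 i) v hv).symm

theorem odd_f (hf : Five S f) : Odd (orderOf f) := by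
  obtain ⟨k, hk⟩ := hf.ord
  exact hk ▸ (by decide : Odd 5).pow

theorem five_dvd (h : Conf S) (hf : Five S f) : 5 ∣ orderOf f := by
  obtain ⟨k, hk⟩ := hf.ord
  rcases Nat.eq_zero_or_pos k with rfl | hk0
  · obtain ⟨u, hu, huV⟩ := h.exists_noncentral
    refine absurd ?_ (hf.free 1 (by norm_num) u hu huV)
    rw [orderOf_eq_one_iff.mp (hk.trans (pow_zero 5))]
    simp [one_mem]
  · exact hk ▸ dvd_pow_self 5 hk0.ne'

theorem pow_mem_cent (hf : Five S f) (hz : z ∈ four S) (i : ℕ) : f ^ i ∈ centralizer ({z} : Set G) :=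
  mem_cent_of_commute (hf.comm_four i hz)

theorem sylow_le (h : Conf S) (hz : z ∈ four S) : (S : Subgroup G) ≤ centralizer ({z} : Set G) :=
  fun _ hs => mem_cent_of_commute (h.four_comm hz hs).symm

theorem pow_mod (hf : Five S f) (hz : z ∈ four S) (hz1 : z ≠ 1) (i : ℕ) :
    ∃ o ∈ theta z, f ^ i = f ^ (i % 5) * o :=
  ⟨(f ^ 5) ^ (i / 5), pow_mem (hf.five_mem z hz hz1) _, by rw [← pow_mul, ← pow_add, Nat.mod_add_div]⟩

theorem conj_theta (hf : Five S f) (hz : z ∈ four S) (i : ℕ) {o : G} (ho : o ∈ theta z) :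
    f ^ i * o * (f ^ i)⁻¹ ∈ theta z :=
  (mem_normalizer_iff.mp (theta_normalized z (hf.pow_mem_cent hz i)) o).mp ho

theorem sylow_theta (h : Conf S) {s : G} (hs : s ∈ (S : Subgroup G)) (hm : s ∈ theta z) : s = 1 :=
  eq_one_of_twoEl_odd (isTwoEl_of_sylow S hs) (not_two_dvd_theta z) hm

/-- Modulo the core the powers of `f` below five and the elements of `S` are independent. -/
theorem key (h : Conf S) (hf : Five S f) (hz : z ∈ four S) {q : G} (hq : q ∈ (S : Subgroup G))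
    {i j : ℕ} (hi : i < 5) (hj : j < 5) (hx : q * (f ^ i * (f ^ j)⁻¹) ∈ theta z) : i = j ∧ q = 1 := by
  obtain ⟨u, hu, huV⟩ := h.exists_noncentral
  set w := f ^ i * (f ^ j)⁻¹ with hw
  have hwN : w ∈ normalizer ((S : Subgroup G) : Set G) :=
    mul_mem (pow_mem hf.mem.1 i) (inv_mem (pow_mem hf.mem.1 j))
  have hwu : w * u * w⁻¹ ∈ (S : Subgroup G) := (mem_normalizer_iff.mp hwN u).mp hu
  set p := q * (w * u * w⁻¹) * q⁻¹ with hp
  have hpS : p ∈ (S : Subgroup G) := mul_mem (mul_mem hq hwu) (inv_mem hq)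
  have h1 : u = p := h.eq_of_mod_theta hx hu hpS (sylow_le h hz hu) (by rw [hp]; group)
  have h2 : f ^ (i + (5 - j)) * u * (f ^ (i + (5 - j)))⁻¹ = w * u * w⁻¹ := by
    have e : f ^ (i + (5 - j)) = w * f ^ 5 := by
      rw [hw, mul_assoc, pow_add, show f ^ 5 = f ^ j * f ^ (5 - j) by rw [← pow_add]; congr 1; omega,
        inv_mul_cancel_left]
    rw [e, show w * f ^ 5 * u * (w * f ^ 5)⁻¹ = w * (f ^ 5 * u * (f ^ 5)⁻¹) * w⁻¹ by group, hf.five_comm u hu,
      mul_inv_cancel_right]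
  have hij : i = j := by
    by_contra hne
    refine hf.free (i + (5 - j)) (fun ⟨c, hc⟩ => by omega) u hu huV ?_
    rw [h2]
    have e3 : w * u * w⁻¹ * u⁻¹ = ⁅q⁻¹, u⁆ := by
      rw [commutatorElement_def, show w * u * w⁻¹ = q⁻¹ * p * q by rw [hp]; group, ← h1]
      group
    rw [e3]
    exact h.comm_mem (inv_mem hq) hu
  refine ⟨hij, sylow_theta (z := z) h hq ?_⟩
  rwa [hw, hij, mul_inv_cancel, mul_one] at hx

/-- The images of the powers of `f` under `S`. -/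
theorem shift (h : Conf S) (hf : Five S f) (hz : z ∈ four S) {s : G} (hs : s ∈ (S : Subgroup G))
    {i j : ℕ} (hi : i < 5) (hj : j < 5) (hx : s * f ^ i * s⁻¹ * (f ^ j)⁻¹ ∈ theta z) :
    i = j ∧ (i = 0 ∨ s ∈ four S) := by
  have hc : (f ^ i) * s⁻¹ * (f ^ i)⁻¹ ∈ (S : Subgroup G) :=
    (mem_normalizer_iff.mp (pow_mem hf.mem.1 i) _).mp (inv_mem hs)
  obtain ⟨hij, hq⟩ := key h hf hz (q := s * (f ^ i * s⁻¹ * (f ^ i)⁻¹)) (mul_mem hs hc) hi hj (by
    rwa [show s * (f ^ i * s⁻¹ * (f ^ i)⁻¹) * (f ^ i * (f ^ j)⁻¹) = s * f ^ i * s⁻¹ * (f ^ j)⁻¹ by group])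
  refine ⟨hij, or_iff_not_imp_left.mpr fun hi0 => ?_⟩
  by_contra hsV
  refine hf.free i (fun ⟨c, hc'⟩ => by omega) s⁻¹ (inv_mem hs) (fun e => hsV (by simpa using inv_mem e)) ?_
  have e : f ^ i * s⁻¹ * (f ^ i)⁻¹ = s⁻¹ := (inv_eq_of_mul_eq_one_right hq).symm
  rw [e, mul_inv_cancel]
  exact one_mem _

/-- The decomposition of the centralizer, with unique factors. -/
theorem decomp_inj (h : Conf S) (hf : Five S f) (hz : z ∈ four S) {o o' s s' : G} (ho : o ∈ theta z)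
    (ho' : o' ∈ theta z) (hs : s ∈ (S : Subgroup G)) (hs' : s' ∈ (S : Subgroup G)) {i j : ℕ} (hi : i < 5)
    (hj : j < 5) (e : o * f ^ i * s = o' * f ^ j * s') : o = o' ∧ i = j ∧ s = s' := by
  have hx : f ^ i * (s * s'⁻¹) * (f ^ i)⁻¹ * (f ^ i * (f ^ j)⁻¹) ∈ theta z := by
    have : f ^ i * (s * s'⁻¹) * (f ^ i)⁻¹ * (f ^ i * (f ^ j)⁻¹) = o⁻¹ * o' := by
      calc f ^ i * (s * s'⁻¹) * (f ^ i)⁻¹ * (f ^ i * (f ^ j)⁻¹) = o⁻¹ * (o * f ^ i * s) * s'⁻¹ * (f ^ j)⁻¹ := by group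
        _ = o⁻¹ * (o' * f ^ j * s') * s'⁻¹ * (f ^ j)⁻¹ := by rw [e]
        _ = _ := by group
    rw [this]
    exact mul_mem (inv_mem ho) ho'
  obtain ⟨rfl, hq⟩ := key h hf hz
    ((mem_normalizer_iff.mp (pow_mem hf.mem.1 i) _).mp (mul_mem hs (inv_mem hs'))) hi hj hx
  have hss : s = s' := mul_inv_eq_one.mp (conj_eq_one_iff.mp hq)
  subst hss
  exact ⟨mul_right_cancel (mul_right_cancel e), rfl, rfl⟩

theorem oddGrp_le (hf : Five S f) (hz : z ∈ four S) : oddGrp z f ≤ centralizer ({z} : Set G) :=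
  sup_le (theta_le_cent z) (zpowers_le.mpr (pow_one f ▸ hf.pow_mem_cent hz 1))

theorem oddGrp_odd (hf : Five S f) (hz : z ∈ four S) : Odd (Nat.card (oddGrp z f)) := by
  have hn : zpowers f ≤ normalizer (theta z : Set G) :=
    (zpowers_le.mpr (pow_one f ▸ hf.pow_mem_cent hz 1)).trans (theta_normalized z)
  have hd : Nat.card (oddGrp z f) ∣ Nat.card (theta z) * Nat.card (zpowers f) :=
    card_sup_mul hn ▸ dvd_mul_right _ _
  refine Nat.not_even_iff_odd.mp fun e => ?_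
  rcases Nat.prime_two.dvd_mul.mp ((even_iff_two_dvd.mp e).trans hd) with e' | e'
  · exact not_two_dvd_theta z e'
  · rw [Nat.card_zpowers] at e'
    exact Nat.not_even_iff_odd.mpr hf.odd_f (even_iff_two_dvd.mpr e')

theorem pow_mem_oddGrp (i : ℕ) {k : G} (hk : k ∈ theta z) : f ^ i * k ∈ oddGrp z f :=
  mul_mem (mem_sup_right (pow_mem (mem_zpowers f) i)) (mem_sup_left hk)

/-- An odd power isolating the involution. -/
theorem pow_card (h : Conf S) (hf : Five S f) (hz : z ∈ four S) {y : G} (hy : y ∈ oddGrp z f) :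
    (z * y) ^ Nat.card (oddGrp z f) = z := by
  rw [(show Commute z y from (commute_of_mem_cent (hf.oddGrp_le hz hy)).symm).mul_pow]
  have h1 : y ^ Nat.card (oddGrp z f) = 1 := by
    exact (SubmonoidClass.coe_pow (⟨y, hy⟩ : oddGrp z f) _).symm.trans
      (congrArg Subtype.val pow_card_eq_one')
  obtain ⟨c, hc⟩ := hf.oddGrp_odd hz
  rw [h1, mul_one, hc, pow_succ, pow_mul, pow_two, h.four_sq hz, one_pow, one_mul]

theorem orderOf_odd (hf : Five S f) (hz : z ∈ four S) {y : G} (hy : y ∈ oddGrp z f) : Odd (orderOf y) :=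
  odd_of_odd_card (hf.oddGrp_odd hz) hy

theorem mem_cent_of_conj (h : Conf S) (hf : Five S f) (hz : z ∈ four S) {y y' g : G} (hy : y ∈ oddGrp z f)
    (hy' : y' ∈ oddGrp z f) (e : g * (z * y) * g⁻¹ = z * y') : g ∈ centralizer ({z} : Set G) := by
  have h1 := congrArg (· ^ Nat.card (oddGrp z f)) e
  simp only [conj_pow, hf.pow_card h hz hy, hf.pow_card h hz hy'] at h1
  exact mem_cent_of_commute (mul_inv_eq_iff_eq_mul.mp h1)

theorem not_conj_noncentral (h : Conf S) (hf : Five S f) (hz : z ∈ four S) {y g u : G} (hy : y ∈ oddGrp z f)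
    (hu : u ∈ (S : Subgroup G)) (huV : u ∉ four S) : g * (z * y) * g⁻¹ ≠ u := by
  intro e
  have hu2 : u * u ≠ 1 := fun e' => huV (h.mem_four_of_sq hu e')
  have h1 := congrArg (· ^ Nat.card (oddGrp z f)) e
  simp only [conj_pow, hf.pow_card h hz hy] at h1
  obtain ⟨c, hc⟩ := hf.oddGrp_odd hz
  rw [hc] at h1
  have h2 : u ^ (2 * c + 1) * u ^ (2 * c + 1) = 1 := by
    rw [← h1, show g * z * g⁻¹ * (g * z * g⁻¹) = g * (z * z) * g⁻¹ by group, h.four_sq hz]; group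
  rw [← pow_add, show 2 * c + 1 + (2 * c + 1) = 2 * (2 * c + 1) by ring, pow_mul, pow_two] at h2
  have h4 : (u * u) ^ 2 = 1 := by rw [pow_two]; exact h.four_sq (h.sq_mem hu)
  rw [pow_succ, pow_mul, h4, one_pow, one_mul] at h2
  exact hu2 h2

/-- The elements of the centralizer moving `f ^ i` to `f ^ j` modulo the core. -/
theorem count (h : Conf S) (hf : Five S f) (hz : z ∈ four S) (hz1 : z ≠ 1) {i j : ℕ} (hi : i < 5)
    (hj : j < 5) :
    Nat.card {g : G // g ∈ centralizer ({z} : Set G) ∧ g * f ^ i * g⁻¹ * (f ^ j)⁻¹ ∈ theta z} =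
      Nat.card (theta z) * (if i = j then (if i = 0 then 320 else 20) else 0) := by
  classical
  set C := centralizer ({z} : Set G)
  set O := theta z
  have hequiv : ∀ o ∈ O, ∀ l, ∀ s ∈ (S : Subgroup G),
      (o * f ^ l * s * f ^ i * (o * f ^ l * s)⁻¹ * (f ^ j)⁻¹ ∈ O ↔ s * f ^ i * s⁻¹ * (f ^ j)⁻¹ ∈ O) := by
    intro o ho l s hs
    have hN : f ^ j ∈ normalizer (O : Set G) := theta_normalized z (hf.pow_mem_cent hz j)
    have hNl : f ^ l ∈ normalizer (O : Set G) := theta_normalized z (hf.pow_mem_cent hz l)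
    set x := s * f ^ i * s⁻¹ * (f ^ j)⁻¹ with hx
    have hc : f ^ j * (f ^ l)⁻¹ = (f ^ l)⁻¹ * f ^ j := ((Commute.pow_pow_self f j l).inv_right).eq
    have e : o * f ^ l * s * f ^ i * (o * f ^ l * s)⁻¹ * (f ^ j)⁻¹ =
        o * (f ^ l * x * (f ^ l)⁻¹) * (f ^ j * o⁻¹ * (f ^ j)⁻¹) := by
      calc o * f ^ l * s * f ^ i * (o * f ^ l * s)⁻¹ * (f ^ j)⁻¹
          = o * f ^ l * x * (f ^ j * (f ^ l)⁻¹) * o⁻¹ * (f ^ j)⁻¹ := by rw [hx]; group
        _ = _ := by rw [hc]; group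
    rw [e]
    refine ((mul_mem_cancel_right ((mem_normalizer_iff.mp hN _).mp (inv_mem ho))).trans
      (mul_mem_cancel_left ho)).trans (mem_normalizer_iff.mp hNl x).symm
  have hcard : Nat.card {g : G // g ∈ C ∧ g * f ^ i * g⁻¹ * (f ^ j)⁻¹ ∈ O} =
      Nat.card (O × Fin 5 × {s : (S : Subgroup G) // (s : G) * f ^ i * (s : G)⁻¹ * (f ^ j)⁻¹ ∈ O}) := by
    refine (Nat.card_congr (Equiv.ofBijective (fun p => (⟨(p.1 : G) * f ^ (p.2.1 : ℕ) * (p.2.2.1 : G),
      mul_mem (mul_mem (theta_le_cent z p.1.2) (hf.pow_mem_cent hz _)) (sylow_le h hz p.2.2.1.2),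
      (hequiv _ p.1.2 _ _ p.2.2.1.2).mpr p.2.2.2⟩ : {g : G // g ∈ C ∧ g * f ^ i * g⁻¹ * (f ^ j)⁻¹ ∈ O})) ?_)).symm
    constructor
    · rintro ⟨⟨o, ho⟩, l, ⟨⟨s, hs⟩, _⟩⟩ ⟨⟨o', ho'⟩, l', ⟨⟨s', hs'⟩, _⟩⟩ e
      obtain ⟨rfl, hl, rfl⟩ := decomp_inj h hf hz ho ho' hs hs' l.2 l'.2 (congrArg Subtype.val e)
      obtain rfl := Fin.ext hl
      rfl
    · rintro ⟨g, hg, hgx⟩
      obtain ⟨o, ho, l, hl, s, hs, rfl⟩ := hf.decomp z hz hz1 g hg
      exact ⟨⟨⟨o, ho⟩, ⟨l, hl⟩, ⟨⟨s, hs⟩, (hequiv o ho l s hs).mp hgx⟩⟩, rfl⟩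
  rw [hcard, Nat.card_prod, Nat.card_prod, Nat.card_fin]
  congr 1
  split_ifs with hij hi0
  · subst hij hi0
    rw [Nat.card_congr (Equiv.subtypeUnivEquiv fun s => ?_), h.hs.card]
    simp [one_mem]
  · subst hij
    have : Nat.card {s : (S : Subgroup G) // (s : G) * f ^ i * (s : G)⁻¹ * (f ^ i)⁻¹ ∈ O} = Nat.card (four S) := by
      refine Nat.card_congr
        { toFun := fun s => ⟨(s.1 : G), (shift h hf hz s.1.2 hi hi s.2).2.resolve_left hi0⟩
          invFun := fun v => ⟨⟨(v : G), h.four_le v.2⟩, ?_⟩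
          left_inv := fun s => rfl
          right_inv := fun v => rfl }
      show (v : G) * f ^ i * (v : G)⁻¹ * (f ^ i)⁻¹ ∈ O
      rw [← hf.comm_four i v.2, mul_inv_cancel_right, mul_inv_cancel]
      exact one_mem _
    rw [this, h.card_four]
  · haveI : IsEmpty {s : (S : Subgroup G) // (s : G) * f ^ i * (s : G)⁻¹ * (f ^ j)⁻¹ ∈ O} :=
      ⟨fun s => hij (shift h hf hz s.1.2 hi hj s.2).1⟩
    rw [Nat.card_of_isEmpty, mul_zero]

/-- The count for conjugation in `G`, summed over the coset. -/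
theorem count_coset (h : Conf S) (hf : Five S f) (hz : z ∈ four S) [Fintype (theta z)] (i j : ℕ) :
    ∑ k : theta z, Nat.card {g : G // g * (z * (f ^ i * k)) * g⁻¹ = z * f ^ j} =
      Nat.card {g : G // g ∈ centralizer ({z} : Set G) ∧ g * f ^ i * g⁻¹ * (f ^ j)⁻¹ ∈ theta z} := by
  rw [← Nat.card_sigma]
  set C := centralizer ({z} : Set G)
  have hC : ∀ (k : theta z) (g : G), g * (z * (f ^ i * k)) * g⁻¹ = z * f ^ j →
      g ∈ C ∧ g * f ^ i * g⁻¹ * (f ^ j)⁻¹ = (g * f ^ i) * (k : G)⁻¹ * (g * f ^ i)⁻¹ := by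
    intro k g e
    have hg : g ∈ C := hf.mem_cent_of_conj h hz (pow_mem_oddGrp i k.2)
      (by simpa using pow_mem_oddGrp (f := f) j (one_mem (theta z))) e
    refine ⟨hg, ?_⟩
    have e2 : f ^ j = g * (f ^ i * k) * g⁻¹ := by
      refine (mul_left_cancel (a := z) ?_).symm
      rw [← e]
      calc z * (g * (f ^ i * k) * g⁻¹) = (z * g) * (f ^ i * k) * g⁻¹ := by group
        _ = (g * z) * (f ^ i * k) * g⁻¹ := by rw [commute_of_mem_cent hg]
        _ = _ := by group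
    rw [e2]; group
  refine Nat.card_congr (Equiv.ofBijective (fun p => (⟨p.2.1, (hC p.1 p.2.1 p.2.2).1, by
    rw [(hC p.1 p.2.1 p.2.2).2]
    exact (mem_normalizer_iff.mp (theta_normalized z (mul_mem (hC p.1 p.2.1 p.2.2).1 (hf.pow_mem_cent hz i)))
      _).mp (inv_mem p.1.2)⟩ : {g : G // g ∈ C ∧ g * f ^ i * g⁻¹ * (f ^ j)⁻¹ ∈ theta z})) ⟨?_, ?_⟩)
  · rintro ⟨k, g, hg⟩ ⟨k', g', hg'⟩ e
    obtain rfl : g = g' := congrArg Subtype.val e
    obtain rfl : k = k' := Subtype.ext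
      (mul_left_cancel (mul_left_cancel (mul_left_cancel (mul_right_cancel (hg.trans hg'.symm)))))
    rfl
  · rintro ⟨g, hg, hx⟩
    have hmem : (g * f ^ i)⁻¹ * (g * f ^ i * g⁻¹ * (f ^ j)⁻¹)⁻¹ * (g * f ^ i) ∈ theta z := by
      have := (mem_normalizer_iff.mp (theta_normalized z (inv_mem (mul_mem hg (hf.pow_mem_cent hz i)))) _).mp
        (inv_mem hx)
      rwa [inv_inv] at this
    refine ⟨⟨⟨_, hmem⟩, g, ?_⟩, rfl⟩
    calc g * (z * (f ^ i * ((g * f ^ i)⁻¹ * (g * f ^ i * g⁻¹ * (f ^ j)⁻¹)⁻¹ * (g * f ^ i)))) * g⁻¹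
        = (g * z) * g⁻¹ * f ^ j := by group
      _ = (z * g) * g⁻¹ * f ^ j := by rw [commute_of_mem_cent hg]
      _ = _ := by group

/-- No product of two involutions lies over `z f ^ j` for `j` prime to five. -/
theorem no_product (h : Conf S) (hf : Five S f) (hz : z ∈ four S) (hz1 : z ≠ 1) {j : ℕ} (hj0 : j ≠ 0)
    (hj : j < 5) {k t : G} (hk : k ∈ theta z) (ht : t * t = 1) :
    t * (z * (f ^ j * k)) * t⁻¹ ≠ (z * (f ^ j * k))⁻¹ := by
  intro e
  set y := f ^ j * k with hy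
  have hyK : y ∈ oddGrp z f := pow_mem_oddGrp j hk
  have hyz : Commute y z := commute_of_mem_cent (hf.oddGrp_le hz hyK)
  rw [mul_inv_rev, inv_eq_of_mul_eq_one_right (h.four_sq hz), (hyz.inv_left).eq] at e
  have htC : t ∈ centralizer ({z} : Set G) := hf.mem_cent_of_conj h hz hyK (inv_mem hyK) e
  have e2 : t * y * t⁻¹ = y⁻¹ := by
    refine mul_left_cancel (a := z) (Eq.trans ?_ e)
    calc z * (t * y * t⁻¹) = (z * t) * y * t⁻¹ := by group
      _ = (t * z) * y * t⁻¹ := by rw [commute_of_mem_cent htC]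
      _ = _ := by group
  obtain ⟨o, ho, l, hl, s, hs, hts⟩ := hf.decomp z hz hz1 t htC
  have h5 : f ^ 5 ∈ theta z := hf.five_mem z hz hz1
  have hfj : (f ^ (5 - j))⁻¹ = (f ^ 5)⁻¹ * f ^ j := by
    rw [eq_inv_mul_iff_mul_eq, show f ^ 5 = f ^ j * f ^ (5 - j) by rw [← pow_add]; congr 1; omega,
      mul_inv_cancel_right]
  have hx : t * f ^ j * t⁻¹ * (f ^ (5 - j))⁻¹ ∈ theta z := by
    have e3 : t * f ^ j * t⁻¹ = k⁻¹ * (f ^ j)⁻¹ * (t * k⁻¹ * t⁻¹) := by
      calc t * f ^ j * t⁻¹ = (t * y * t⁻¹) * (t * k⁻¹ * t⁻¹) := by rw [hy]; group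
        _ = _ := by rw [e2, hy]; group
    have hN : f ^ j ∈ normalizer (theta z : Set G) := theta_normalized z (hf.pow_mem_cent hz j)
    rw [e3, hfj, show k⁻¹ * (f ^ j)⁻¹ * (t * k⁻¹ * t⁻¹) * ((f ^ 5)⁻¹ * f ^ j) =
      k⁻¹ * ((f ^ j)⁻¹ * (t * k⁻¹ * t⁻¹ * (f ^ 5)⁻¹) * (f ^ j)⁻¹⁻¹) by group]
    exact mul_mem (inv_mem hk) ((mem_normalizer_iff.mp (inv_mem hN) _).mp
      (mul_mem ((mem_normalizer_iff.mp (theta_normalized z htC) _).mp (inv_mem hk)) (inv_mem h5)))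
  have := count h hf hz hz1 hj (show 5 - j < 5 by omega)
  rw [if_neg (by omega), mul_zero] at this
  haveI hne : Nonempty {g : G // g ∈ centralizer ({z} : Set G) ∧
      g * f ^ j * g⁻¹ * (f ^ (5 - j))⁻¹ ∈ theta z} := ⟨⟨t, htC, hx⟩⟩
  exact Nat.card_pos.ne' this

end Five

namespace Conf

variable {S : Sylow 2 G}

/-- Every element of the coset of `s` is conjugate under the core to one commuting with `s`. -/
theorem exists_fibre (h : Conf S) {z s k : G} (hz : z ∈ four S) (hs : s ∈ (S : Subgroup G))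
    (hk : k ∈ theta z) : ∃ x ∈ theta z, ∃ c ∈ theta z, c * s = s * c ∧ x * (s * k) * x⁻¹ = s * c := by
  have hn : s ∈ normalizer (theta z : Set G) := theta_normalized z (Five.sylow_le h hz hs)
  obtain ⟨j, hj⟩ := isTwoEl_of_sylow S hs
  obtain ⟨x, hx, c, hc, hcs, e⟩ := CfsgLib.CharTheory.conj_coset_coprime (theta z) hn
    (hj ▸ ((Nat.prime_two.coprime_iff_not_dvd.mpr (not_two_dvd_theta z)).pow_left j))
    ((mem_normalizer_iff.mp hn k).mp hk)
  refine ⟨x, hx, c, hc, hcs, ?_⟩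
  rw [← hcs, ← e]; group

/-- The centralizer of an element of order four is a `2`-group modulo an odd normal subgroup. -/
theorem cent_noncentral_data (h : Conf S) {u : G} (hu : u ∈ (S : Subgroup G)) (huV : u ∉ four S) :
    ((theta (u * u)).subgroupOf (centralizer ({u} : Set G))).Normal ∧
      ¬ 2 ∣ Nat.card ((theta (u * u)).subgroupOf (centralizer ({u} : Set G))) ∧
      (∀ q : centralizer ({u} : Set G), ∃ k, q ^ 2 ^ k ∈ (theta (u * u)).subgroupOf (centralizer ({u} : Set G))) ∧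
      Nat.card (centralizer ({u} : Set G)) =
        Nat.card ((theta (u * u)).subgroupOf (centralizer ({u} : Set G))) * 16 := by
  haveI : Fact (Nat.Prime 2) := ⟨Nat.prime_two⟩
  set C := centralizer ({u} : Set G)
  set O := (theta (u * u)).subgroupOf C
  have hCz : C ≤ centralizer ({u * u} : Set G) := fun g hg => mem_cent_of_commute
    ((show Commute g u from commute_of_mem_cent hg).mul_right (commute_of_mem_cent hg)).eq
  have hOn : O.Normal :=
    ⟨fun o ho g => (mem_normalizer_iff.mp (theta_normalized _ (hCz g.2)) _).mp ho⟩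
  haveI := hOn
  refine ⟨hOn, fun e => not_two_dvd_theta (u * u)
    (e.trans (card_comap_dvd_of_injective (theta (u * u)) C.subtype C.subtype_injective)), fun q => ?_, ?_⟩
  · obtain ⟨o, ho, s, hs, hou, hsu, e⟩ := h.cent_noncentral hu huV q.2
    obtain ⟨k, hk⟩ := isTwoEl_of_sylow S hs
    refine ⟨k, ?_⟩
    have e' : q = ⟨o, mem_cent_of_commute hou⟩ * ⟨s, mem_cent_of_commute hsu⟩ := Subtype.ext e
    rw [← QuotientGroup.eq_one_iff, QuotientGroup.mk_pow, e', QuotientGroup.mk_mul,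
      (QuotientGroup.eq_one_iff (⟨o, mem_cent_of_commute hou⟩ : C)).2 ho, one_mul, ← QuotientGroup.mk_pow]
    rw [show (⟨s, mem_cent_of_commute hsu⟩ : C) ^ 2 ^ k = 1 from Subtype.ext (by
      rw [SubmonoidClass.coe_pow, ← hk, pow_orderOf_eq_one, OneMemClass.coe_one]), QuotientGroup.mk_one]
  · have h16 : Nat.card {t : (S : Subgroup G) // (t : G) * u = u * t} = 16 := by
      have hc : (⟨u, hu⟩ : (S : Subgroup G)) ∉ center (S : Subgroup G) := fun e => huV ((h.center_iff _).mp e)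
      rw [← h.hs.card_centralizer hc]
      refine Nat.card_congr (Equiv.subtypeEquivRight fun t => ?_)
      rw [mem_centralizer_singleton_iff]
      exact ⟨fun e => Subtype.ext e, fun e => congrArg Subtype.val e⟩
    rw [← h16, ← Nat.card_prod]
    refine (Nat.card_congr (Equiv.ofBijective (fun p : O × {t : (S : Subgroup G) // (t : G) * u = u * t} =>
      (p.1 : C) * ⟨(p.2.1 : G), mem_cent_of_commute p.2.2⟩) ⟨?_, ?_⟩)).symm
    · rintro ⟨⟨o, ho⟩, ⟨⟨t, ht⟩, htu⟩⟩ ⟨⟨o', ho'⟩, ⟨⟨t', ht'⟩, htu'⟩⟩ e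
      have e' : (o : G) * t = (o' : G) * t' := congrArg Subtype.val e
      have hm : t' * t⁻¹ = (o' : G)⁻¹ * o := by
        rw [eq_inv_mul_iff_mul_eq, ← mul_assoc, ← e', mul_inv_cancel_right]
      obtain rfl := mul_inv_eq_one.1 (Five.sylow_theta h (mul_mem ht' (inv_mem ht))
        (hm ▸ mul_mem (inv_mem ho') ho : t' * t⁻¹ ∈ theta (u * u)))
      obtain rfl := Subtype.ext (mul_right_cancel e')
      rfl
    · intro g
      obtain ⟨o, ho, s, hs, hou, hsu, e⟩ := h.cent_noncentral hu huV g.2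
      exact ⟨(⟨⟨o, mem_cent_of_commute hou⟩, ho⟩, ⟨⟨s, hs⟩, hsu⟩), Subtype.ext e.symm⟩

theorem exists_conj_noncentral (h : Conf S) {f : G} (hf : Five S f) {u u' : G} (hu : u ∈ (S : Subgroup G))
    (huV : u ∉ four S) (hu' : u' ∈ (S : Subgroup G)) (huV' : u' ∉ four S) : ∃ g, g * u * g⁻¹ = u' := by
  obtain ⟨n, hn, e⟩ := h.exists_conj_four (h.sq_mem hu) (fun e => huV (h.mem_four_of_sq hu e))
    (h.sq_mem hu') (fun e => huV' (h.mem_four_of_sq hu' e))
  have hnu : n * u * n⁻¹ ∈ (S : Subgroup G) := (mem_normalizer_iff.mp hn u).mp hu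
  obtain ⟨m, -, em⟩ := hf.trans _ hnu
    (fun e' => huV ((mem_normalizer_iff.mp (h.sylow_normalizer_le hn) u).mpr e')) u' hu'
    (by rw [← e]; group)
  exact ⟨m * n, by rw [← em]; group⟩

end Conf

end CfsgLib.U34Char
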