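import Cfsg.Agent.Lib.U34Char.Five.Orth
import Cfsg.Agent.Lib.Blocks.KGV.Knorr
import Cfsg.Agent.Lib.KFactThree.Basic

/-!
Multiplicities on the Sylow subgroup, on its product with the core and on a cyclic subgroup of order `2 · 5ᵏ`.
-/

set_option autoImplicit false
set_option linter.unusedSectionVars false
set_option linter.style.haveILetI false

namespace CfsgLib.U34Char

open Cfsg CfsgLib CfsgLib.CharTheory CfsgLib.Blocks CfsgLib.HallE8 CfsgLib.ZCReduction CfsgLib.PiClosedTwo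
open scoped ComplexConjugate commutatorElement

universe u

variable {G : Type u} [Group G] [Fintype G] {M : Ideal AlgInt}

/-- Multiplicity of a root of unity among the eigenvalues. -/
theorem sum_pow_root {N : ℕ} {x : ℂ} (hx : x ^ N = 1) :
    ∑ m ∈ Finset.range N, x ^ m = if x = 1 then (N : ℂ) else 0 := by
  split_ifs with h
  · simp [h]
  · rw [geom_sum_eq h, hx, sub_self, zero_div]

theorem eigen_count {χ : G → ℂ} (hχ : IsCharacter G χ) (g : G) {c : ℂ} (hc : c ^ Nat.card G = 1) :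
    ∃ n : ℕ, ∑ m ∈ Finset.range (Nat.card G), c ^ m * χ (g ^ m) = (Nat.card G : ℂ) * n := by
  classical
  obtain ⟨s, hs, hpow⟩ := exists_roots_pow hχ g
  refine ⟨(s.filter fun x => c * x = 1).card, ?_⟩
  simp only [hpow]
  clear hpow
  revert hs
  induction s using Multiset.induction with
  | empty => simp
  | cons x s ih =>
    intro hs
    simp only [Multiset.map_cons, Multiset.sum_cons, mul_add, Finset.sum_add_distrib, ← mul_pow]
    rw [ih (fun y hy => hs y (Multiset.mem_cons_of_mem hy)),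
      sum_pow_root (by rw [mul_pow, hc, hs x (Multiset.mem_cons_self x s), mul_one]), Multiset.filter_cons]
    by_cases hcx : c * x = 1
    · simp [hcx, mul_add, add_comm]
    · simp [hcx]

theorem sum_range_periodic {F : ℕ → ℂ} {p : ℕ} (hF : ∀ m, F (m + p) = F m) :
    ∀ a : ℕ, ∑ m ∈ Finset.range (a * p), F m = (a : ℂ) * ∑ m ∈ Finset.range p, F m := by
  intro a
  induction a with
  | zero => simp
  | succ a ih =>
    have h : ∀ m, F (a * p + m) = F m := by
      intro m
      clear ih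
      induction a with
      | zero => simp
      | succ a ih' => rw [show (a + 1) * p + m = (a * p + m) + p by ring, hF, ih']
    rw [Nat.succ_mul, Finset.sum_range_add, ih, Finset.sum_congr rfl fun m _ => h m]
    push_cast; ring

/-- The eigenvalue differences on `z f`. -/
noncomputable def colE (ω : ℂ) (f z : G) (l : ℕ) (χ : G → ℂ) : ℂ :=
  (5 : ℂ)⁻¹ * ∑ j : Fin 5, ω ^ ((j : ℕ) * l) * χ (z * f ^ (j : ℕ))

namespace Five

variable {S : Sylow 2 G} {f z : G}

theorem colE_int (h : Conf S) (hf : Five S f) (hM : IsPModular 2 M) (hz : z ∈ four S) (hz1 : z ≠ 1) {ω : ℂ}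
    (hω : ω ^ 5 = 1) (l : ℕ) {χ : IrrCharacter G} (hχ : χ ∈ principalBlock M G) :
    ∃ n : ℤ, colE ω f z l (χ : G → ℂ) = (n : ℂ) := by
  have h2 : 2 ∣ Nat.card G := h.even
  have h5 : 5 ∣ Nat.card G := (five_dvd h hf).trans (orderOf_dvd_natCard f)
  obtain ⟨a, ha⟩ : 10 ∣ Nat.card G := Nat.Coprime.mul_dvd_of_dvd_of_dvd (by norm_num : Nat.Coprime 2 5) h2 h5
  have hcl : (ω ^ l) ^ Nat.card G = 1 := by
    obtain ⟨b, hb⟩ := h5
    rw [← pow_mul, mul_comm, hb, mul_assoc, pow_mul, hω, one_pow]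
  have hcm : (-(ω ^ l)) ^ Nat.card G = 1 := by
    rw [neg_pow, hcl, mul_one]
    exact (even_iff_two_dvd.2 h2).neg_one_pow
  obtain ⟨n1, hn1⟩ := eigen_count (isCharacter_of_irr χ.2) (z * f) hcl
  obtain ⟨n2, hn2⟩ := eigen_count (isCharacter_of_irr χ.2) (z * f) hcm
  refine ⟨(n1 : ℤ) - n2, ?_⟩
  set F : ℕ → ℂ := fun m => (1 - (-1) ^ m) * (ω ^ (m * l) * (χ : G → ℂ) (z * f ^ (m % 5))) with hF
  have hval : ∀ m, (ω ^ l) ^ m * (χ : G → ℂ) ((z * f) ^ m) - (-(ω ^ l)) ^ m * (χ : G → ℂ) ((z * f) ^ m) = F m := by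
    intro m
    rw [neg_pow, hF]
    rcases Nat.even_or_odd m with he | ho
    · simp [he.neg_one_pow]
    · have hzf : (z * f) ^ m = z * f ^ m := by
        rw [(show Commute z f from (pow_one f ▸ hf.comm_four 1 hz).symm).mul_pow]
        obtain ⟨c, rfl⟩ := ho
        rw [pow_succ z, pow_mul, pow_two, h.four_sq hz, one_pow, one_mul]
      rw [hzf, value_mod h hf hM hz hz1 m hχ, ← pow_mul, mul_comm l m]
      simp only [ho.neg_one_pow]
      ring
  have hper : ∀ m, F (m + 10) = F m := by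
    intro m
    have e : ω ^ ((m + 10) * l) = ω ^ (m * l) := by
      rw [add_mul, pow_add, show 10 * l = 5 * (2 * l) by ring, pow_mul ω 5, hω, one_pow, mul_one]
    simp only [hF, e, show (m + 10) % 5 = m % 5 by omega, pow_add]
    norm_num
  have hsum : ∑ m ∈ Finset.range (Nat.card G), F m = (Nat.card G : ℂ) * ((n1 : ℂ) - n2) := by
    rw [mul_sub, ← hn1, ← hn2, ← Finset.sum_sub_distrib]
    exact Finset.sum_congr rfl fun m _ => (hval m).symm
  rw [ha, mul_comm 10 a, sum_range_periodic hper a] at hsum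
  have ha0 : (a : ℂ) ≠ 0 := Nat.cast_ne_zero.2 fun e => by
    rw [e, mul_zero] at ha; exact Nat.card_pos.ne' ha
  have h10 : ∑ m ∈ Finset.range 10, F m = 10 * ((n1 : ℂ) - n2) :=
    mul_left_cancel₀ ha0 (hsum.trans (by push_cast; ring))
  have e5 : ∀ c, ω ^ ((c + 5) * l) = ω ^ (c * l) := fun c => by
    rw [add_mul, pow_add, pow_mul ω 5 l, hω, one_pow, mul_one]
  simp only [hF, Finset.sum_range_succ, Finset.sum_range_zero] at h10
  norm_num at h10
  have a5 : ω ^ (5 * l) = 1 := by rw [pow_mul, hω, one_pow]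
  have a7 : ω ^ (7 * l) = ω ^ (2 * l) := e5 2
  have a9 : ω ^ (9 * l) = ω ^ (4 * l) := e5 4
  simp only [a5, a7, a9] at h10
  simp only [colE, Fin.sum_univ_five, Fin.val_zero, Fin.val_one, Fin.val_two, show ((3 : Fin 5) : ℕ) = 3 from rfl,
    show ((4 : Fin 5) : ℕ) = 4 from rfl, pow_zero, pow_one, zero_mul, one_mul, mul_one]
  push_cast
  linear_combination (1 / 10 : ℂ) * h10

end Five

/-- A linear character of `S` trivial on its centre but not trivial. -/
theorem Conf.exists_linear {S : Sylow 2 G} (h : Conf S) :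
    ∃ r : ↥(S : Subgroup G) →* ℂˣ, r ≠ 1 ∧ ∀ x ∈ Subgroup.center (S : Subgroup G), r x = 1 := by
  classical
  let Q := (S : Subgroup G) ⧸ Subgroup.center (S : Subgroup G)
  have hsq : ∀ q : Q, q * q = 1 := fun q => QuotientGroup.induction_on q fun x => by
    rw [← QuotientGroup.mk_mul]; exact (QuotientGroup.eq_one_iff _).2 (h.hs.sq x)
  letI : CommGroup Q := { (inferInstance : Group Q) with
    mul_comm := fun p q => by
      rw [← inv_eq_of_mul_eq_one_right (hsq (p * q)), mul_inv_rev, inv_eq_of_mul_eq_one_right (hsq p),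
        inv_eq_of_mul_eq_one_right (hsq q)] }
  haveI : Fintype Q := Fintype.ofFinite _
  obtain ⟨u, hu, huV⟩ := h.exists_noncentral
  have hq : (QuotientGroup.mk (⟨u, hu⟩ : (S : Subgroup G)) : Q) ≠ 1 := fun e =>
    huV ((h.center_iff _).mp ((QuotientGroup.eq_one_iff _).1 e))
  obtain ⟨φ, hφ⟩ := CommGroup.exists_apply_ne_one_of_hasEnoughRootsOfUnity Q ℂ hq
  refine ⟨φ.comp (QuotientGroup.mk' _), fun e => hφ (DFunLike.congr_fun e _), fun x hx => ?_⟩
  show φ (x : Q) = 1
  rw [(QuotientGroup.eq_one_iff x).2 hx, map_one]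

/-- A character of degree four. -/
theorem Conf.exists_four {S : Sylow 2 G} (h : Conf S) :
    ∃ ψ : IrrCharacter (S : Subgroup G),
      (∀ x, x ∉ Subgroup.center (S : Subgroup G) → (ψ : ↥(S : Subgroup G) → ℂ) x = 0) ∧
      (ψ : ↥(S : Subgroup G) → ℂ) 1 = 4 ∧ ∑ x, (ψ : ↥(S : Subgroup G) → ℂ) x = 0 := by
  classical
  obtain ⟨a, ha, ha1⟩ := h.exists_ne_one
  let za : (S : Subgroup G) := ⟨a, h.four_le ha⟩
  have hzaC : za ∈ Subgroup.center (S : Subgroup G) := (h.center_iff za).2 ha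
  have za1 : za ≠ 1 := fun e => ha1 (congrArg Subtype.val e)
  obtain ⟨ψ, hψa⟩ : ∃ ψ : IrrCharacter (S : Subgroup G),
      (ψ : ↥(S : Subgroup G) → ℂ) za ≠ (ψ : ↥(S : Subgroup G) → ℂ) 1 := by
    by_contra hc
    push Not at hc
    have e1 := CfsgLib.E8Solv.sum_irr_eq_card za (1 : (S : Subgroup G))
    have e2 := CfsgLib.E8Solv.sum_irr_eq_card (1 : (S : Subgroup G)) (1 : (S : Subgroup G))
    simp only [hc] at e1
    haveI : IsEmpty {z : (S : Subgroup G) // z * za * z⁻¹ = 1} := ⟨fun z => za1 (conj_eq_one_iff.1 z.2)⟩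
    rw [Nat.card_of_isEmpty, Nat.cast_zero, e2] at e1
    haveI : Nonempty {z : (S : Subgroup G) // z * 1 * z⁻¹ = 1} := ⟨⟨1, by simp⟩⟩
    exact Nat.card_pos.ne' (by exact_mod_cast e1)
  set P : ↥(S : Subgroup G) → ℂ := (ψ : ↥(S : Subgroup G) → ℂ) with hP
  have hne1 : P 1 ≠ 0 := Blocks.irr_one_ne_zero ψ
  have hsign : ∀ z ∈ Subgroup.center (S : Subgroup G), ∃ t : ℂ, t * t = 1 ∧ ∀ g, P (z * g) = t * P g := by
    intro z hz
    obtain ⟨t, -, ht⟩ := CfsgLib.Blocks.KGV.Knorr.exists_central_root ψ.2 hz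
    have ht' : ∀ g, P (z * g) = t * P g := ht
    refine ⟨t, ?_, ht'⟩
    have h1 : P 1 = t * t * P 1 := by
      calc P 1 = P (z * (z * 1)) := by rw [← mul_assoc, h.hs.cen z hz, one_mul]
        _ = t * t * P 1 := by rw [ht', ht', mul_assoc]
    exact (mul_eq_right₀ hne1).1 h1.symm
  obtain ⟨t, ht1, ht⟩ := hsign za hzaC
  have hta : ∀ g, P (za * g) = -P g := by
    rcases mul_self_eq_one_iff.1 ht1 with rfl | rfl
    · exact absurd (by simpa using ht 1) hψa
    · intro g; rw [ht g, neg_one_mul]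
  have hzero : ∀ x, x ∉ Subgroup.center (S : Subgroup G) → P x = 0 := by
    intro x hx
    obtain ⟨y, hy⟩ := h.hs.surj x hx za hzaC
    have h1 : y * x⁻¹ * y⁻¹ = x⁻¹ * za := by rw [← hy, commutatorElement_def]; group
    have h2 : P (y * x⁻¹ * y⁻¹) = P x⁻¹ := isClassFunction_irr ψ.2 x⁻¹ y
    rw [h1, ← (Subgroup.mem_center_iff.1 hzaC x⁻¹).symm, hta] at h2
    have h3 : P x⁻¹ = 0 := by linear_combination (-(1 : ℂ) / 2) * h2
    have h4 := Blocks.irr_inv ψ x⁻¹
    rw [inv_inv] at h4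
    rw [show P x = conj (P x⁻¹) from h4, h3, map_zero]
  have hsum0 : ∑ x, P x = 0 := by
    have h1 : ∑ x, P x = ∑ x, P (za * x) := (Fintype.sum_equiv (Equiv.mulLeft za) _ _ fun x => rfl).symm
    simp only [hta, Finset.sum_neg_distrib] at h1
    linear_combination h1 / 2
  refine ⟨ψ, hzero, ?_, hsum0⟩
  obtain ⟨n, hn⟩ := char_one_eq_natCast (isCharacter_of_irr ψ.2)
  have hn' : P 1 = (n : ℂ) := hn
  have h1 := classInner_irr_self ψ.2
  rw [classInner, h.hs.card, ← hP] at h1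
  have hterm : ∀ x, P x * conj (P x) = if x ∈ Subgroup.center (S : Subgroup G) then ((n * n : ℕ) : ℂ) else 0 := by
    intro x
    split_ifs with hx
    · obtain ⟨t', ht', ht''⟩ := hsign x hx
      rw [show P x = t' * P 1 by rw [← ht'', mul_one], hn', map_mul, map_natCast]
      rcases mul_self_eq_one_iff.1 ht' with rfl | rfl <;> (push_cast; simp)
    · rw [hzero x hx, zero_mul]
  rw [Finset.sum_congr rfl fun x _ => hterm x, ← Finset.sum_filter, Finset.sum_const, nsmul_eq_mul,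
    ← Fintype.card_subtype, ← Nat.card_eq_fintype_card, h.hs.card_center] at h1
  have h16 : (n : ℂ) * n = 16 := by push_cast at h1; linear_combination (16 : ℂ) * h1
  have h16' : n * n = 4 * 4 := by exact_mod_cast h16
  show P 1 = 4
  rw [hn', Nat.mul_self_inj.1 h16']
  norm_num

namespace Conf

variable {S : Sylow 2 G}

/-- Sums over `S` of functions of the shape `X`, `a` on the involutions, `b` elsewhere. -/
theorem sum_pattern (h : Conf S) (θ W : ↥(S : Subgroup G) → ℂ) {X a b : ℂ} (h1 : W 1 = X)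
    (hC : ∀ x ∈ Subgroup.center (S : Subgroup G), x ≠ 1 → W x = a)
    (ho : ∀ x, x ∉ Subgroup.center (S : Subgroup G) → W x = b)
    [DecidablePred (· ∈ Subgroup.center (S : Subgroup G))] :
    ∑ x, θ x * W x = θ 1 * (X - a) + (a - b) * (∑ x, if x ∈ Subgroup.center (S : Subgroup G) then θ x else 0) +
      b * ∑ x, θ x := by
  classical
  have key : ∀ x, θ x * W x = (if x = 1 then θ x * (X - a) else 0) +
      (a - b) * (if x ∈ Subgroup.center (S : Subgroup G) then θ x else 0) + b * θ x := by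
    intro x
    by_cases hx1 : x = 1
    · subst hx1; rw [if_pos rfl, if_pos (one_mem _), h1]; ring
    · rw [if_neg hx1]
      by_cases hx : x ∈ Subgroup.center (S : Subgroup G)
      · rw [if_pos hx, hC x hx hx1]; ring
      · rw [if_neg hx, ho x hx]; ring
  rw [Finset.sum_congr rfl fun x _ => key x, Finset.sum_add_distrib, Finset.sum_add_distrib, ← Finset.mul_sum,
    ← Finset.mul_sum, Finset.sum_ite_eq', if_pos (Finset.mem_univ _)]

/-- The three multiplicities read off a pattern. -/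
theorem pattern_mult (h : Conf S) {r : ↥(S : Subgroup G) →* ℂˣ} (hr : r ≠ 1)
    (hr1 : ∀ x ∈ Subgroup.center (S : Subgroup G), r x = 1) {P : ↥(S : Subgroup G) → ℂ}
    (hP0 : ∀ x, x ∉ Subgroup.center (S : Subgroup G) → P x = 0) (hP1 : P 1 = 4) (hPs : ∑ x, P x = 0)
    (W : ↥(S : Subgroup G) → ℂ) {X a b : ℂ} (h1 : W 1 = X)
    (hC : ∀ x ∈ Subgroup.center (S : Subgroup G), x ≠ 1 → W x = a)
    (ho : ∀ x, x ∉ Subgroup.center (S : Subgroup G) → W x = b) :
    ∑ x, W x = X + 3 * a + 60 * b ∧ ∑ x, ((r x : ℂˣ) : ℂ) * W x = X + 3 * a - 4 * b ∧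
      ∑ x, P x * W x = 4 * (X - a) := by
  classical
  have hc4 : (Finset.univ.filter fun x : ↥(S : Subgroup G) => x ∈ Subgroup.center (S : Subgroup G)).card = 4 := by
    rw [← Fintype.card_subtype, ← Nat.card_eq_fintype_card]
    exact h.hs.card_center
  have hS : Fintype.card ↥(S : Subgroup G) = 64 := by rw [← Nat.card_eq_fintype_card, h.hs.card]
  have hrs : ∑ x, ((r x : ℂˣ) : ℂ) = 0 :=
    sum_hom_units_eq_zero ((Units.coeHom ℂ).comp r) fun e => hr (MonoidHom.ext fun x => Units.ext (DFunLike.congr_fun e x))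
  refine ⟨?_, ?_, ?_⟩
  · have := h.sum_pattern (fun _ => 1) W h1 hC ho
    simp only [one_mul] at this
    rw [this, ← Finset.sum_filter, Finset.sum_const, hc4, Finset.sum_const, Finset.card_univ, hS]
    norm_num; ring
  · rw [h.sum_pattern (fun x => ((r x : ℂˣ) : ℂ)) W h1 hC ho, hrs, map_one, ← Finset.sum_filter,
      Finset.sum_congr rfl fun x hx => show ((r x : ℂˣ) : ℂ) = 1 by
        rw [hr1 x (Finset.mem_filter.1 hx).2, Units.val_one], Finset.sum_const, hc4]
    norm_num; ring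
  · rw [h.sum_pattern P W h1 hC ho, hP1, hPs, Finset.sum_congr rfl fun x _ =>
      show (if x ∈ Subgroup.center (S : Subgroup G) then P x else 0) = P x by
        split_ifs with hx
        · rfl
        · rw [hP0 x hx], hPs]
    ring

end Conf

namespace Five

variable {S : Sylow 2 G} {f z : G}

/-- The values of a principal character and of its part fixed by the core, on `S`. -/
theorem mult (h : Conf S) (hf : Five S f) (hM : IsPModular 2 M) (hz : z ∈ four S) (hz1 : z ≠ 1)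
    {u : G} (hu : u ∈ (S : Subgroup G)) (huV : u ∉ four S) {χ : IrrCharacter G}
    (hχ : χ ∈ principalBlock M G) :
    ∃ p q r d p' q' r' m : ℕ,
      (charDegree (χ : G → ℂ) : ℂ) - (χ : G → ℂ) z = 16 * p ∧
      (charDegree (χ : G → ℂ) : ℂ) + 3 * (χ : G → ℂ) z - 4 * (χ : G → ℂ) u = 64 * q ∧
      (charDegree (χ : G → ℂ) : ℂ) + 3 * (χ : G → ℂ) z + 60 * (χ : G → ℂ) u = 64 * r ∧
      (d : ℂ) - (χ : G → ℂ) z = 16 * p' ∧
      (d : ℂ) + 3 * (χ : G → ℂ) z - 4 * (χ : G → ℂ) u = 64 * q' ∧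
      (d : ℂ) + 3 * (χ : G → ℂ) z + 60 * (χ : G → ℂ) u = 64 * r' ∧
      charDegree (χ : G → ℂ) = d + 64 * m ∧ (χ ≠ oneIrr G → theta z ≠ ⊥ → 0 < m) := by
  classical
  obtain ⟨r0, hr0, hr1⟩ := h.exists_linear
  obtain ⟨ψ, hψ0, hψ1, hψs⟩ := h.exists_four
  set P : ↥(S : Subgroup G) → ℂ := (ψ : ↥(S : Subgroup G) → ℂ)
  set D : ℂ := (charDegree (χ : G → ℂ) : ℂ)
  set K := theta z
  haveI : Fintype K := Fintype.ofFinite _
  have hKS : ((S : Subgroup G)) ≤ Subgroup.normalizer (K : Set G) := (sylow_le h hz).trans (theta_normalized z)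
  set E := K ⊔ (S : Subgroup G)
  haveI : Fintype E := Fintype.ofFinite _
  have hinj : ∀ (k k' : K) (s s' : ↥(S : Subgroup G)), (k : G) * s = k' * s' → k = k' ∧ s = s' := by
    intro k k' s s' e
    have hm : (s' : G) * (s : G)⁻¹ = (k' : G)⁻¹ * k := by
      rw [eq_inv_mul_iff_mul_eq, ← mul_assoc, ← e, mul_inv_cancel_right]
    obtain rfl : s' = s := Subtype.ext (mul_inv_eq_one.1 (sylow_theta h (mul_mem s'.2 (inv_mem s.2))
      (hm ▸ mul_mem (inv_mem k'.2) k.2 : (s' : G) * (s : G)⁻¹ ∈ theta z)))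
    exact ⟨Subtype.ext (mul_right_cancel e), rfl⟩
  let Φ : K × ↥(S : Subgroup G) ≃ E := Equiv.ofBijective
    (fun p => ⟨(p.1 : G) * p.2, mul_mem (Subgroup.mem_sup_left p.1.2) (Subgroup.mem_sup_right p.2.2)⟩) ⟨by
      rintro ⟨k, s⟩ ⟨k', s'⟩ e
      obtain ⟨rfl, rfl⟩ := hinj k k' s s' (congrArg Subtype.val e)
      rfl, by
      rintro ⟨x, hx⟩
      rw [← SetLike.mem_coe, Subgroup.coe_mul_of_right_le_normalizer_left _ _ hKS] at hx
      obtain ⟨k, hk, s, hs, e⟩ := hx
      exact ⟨(⟨k, hk⟩, ⟨s, hs⟩), Subtype.ext e⟩⟩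
  have hΦ : ∀ x : E, (((Φ.symm x).1 : G) * ((Φ.symm x).2 : G)) = x := fun x =>
    congrArg Subtype.val (Φ.apply_symm_apply x)
  let pr : E →* ↥(S : Subgroup G) :=
    { toFun := fun x => (Φ.symm x).2
      map_one' := by
        have := (hinj (Φ.symm 1).1 1 (Φ.symm 1).2 1 (by rw [hΦ]; simp)).2
        exact this
      map_mul' := fun x y => by
        refine (hinj (Φ.symm (x * y)).1 ((Φ.symm x).1 * ⟨((Φ.symm x).2 : G) * (Φ.symm y).1 * ((Φ.symm x).2 : G)⁻¹,
          (Subgroup.mem_normalizer_iff.mp (hKS (Φ.symm x).2.2) _).mp (Φ.symm y).1.2⟩) _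
          ((Φ.symm x).2 * (Φ.symm y).2) ?_).2
        rw [hΦ, Subgroup.coe_mul, ← hΦ x, ← hΦ y, Subgroup.coe_mul, Subgroup.coe_mul]
        group }
  have hprΦ : ∀ p, pr (Φ p) = p.2 := fun p => by show (Φ.symm (Φ p)).2 = p.2; rw [Equiv.symm_apply_apply]
  have hcardE : Nat.card E = Nat.card K * 64 := by rw [← Nat.card_congr Φ, Nat.card_prod, h.hs.card]
  obtain ⟨d, hd⟩ : ∃ d : ℕ, (Nat.card K : ℂ)⁻¹ * ∑ k : K, (χ : G → ℂ) k = (d : ℂ) := by
    obtain ⟨d, hd⟩ := classInner_char_nat (isCharacter_restrict_irr K χ) (isCharacter_one (G := K))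
    exact ⟨d, by rw [← hd, classInner]; simp⟩
  let W : ℂ → ↥(S : Subgroup G) → ℂ := fun X x => if x = 1 then X else conj ((χ : G → ℂ) x)
  have hDconj : conj D = D := map_natCast _ _
  have hvals : ∀ X, W X 1 = X ∧
      (∀ x ∈ Subgroup.center (S : Subgroup G), x ≠ 1 → W X x = (χ : G → ℂ) z) ∧
      (∀ x, x ∉ Subgroup.center (S : Subgroup G) → W X x = (χ : G → ℂ) u) := by
    intro X
    refine ⟨if_pos rfl, fun x hx hx1 => ?_, fun x hx => ?_⟩
    · have hxV : (x : G) ∈ four S := (h.center_iff x).1 hx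
      rw [show W X x = conj ((χ : G → ℂ) x) from if_neg hx1, irr_conjInv, inv_eq_of_mul_eq_one_right (h.four_sq hxV)]
      exact h.value_four hz hz1 hxV (fun e => hx1 (Subtype.ext e)) χ
    · have hxV : (x : G) ∉ four S := fun e => hx ((h.center_iff x).2 e)
      rw [show W X x = conj ((χ : G → ℂ) x) from if_neg fun e => hx (by rw [e]; exact one_mem _), irr_conjInv]
      exact h.value_noncentral hf hu huV (inv_mem x.2) (fun e => hxV (by simpa using inv_mem e)) χ
  have hmS : ∀ θ : ↥(S : Subgroup G) → ℂ, IsCharacter ↥(S : Subgroup G) θ →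
      ∃ n : ℕ, ∑ x, θ x * W D x = 64 * (n : ℂ) := by
    intro θ hθ
    obtain ⟨n, hn⟩ := classInner_char_nat hθ (isCharacter_restrict_irr (S : Subgroup G) χ)
    refine ⟨n, ?_⟩
    rw [← hn, classInner, h.hs.card, ← mul_assoc, Nat.cast_ofNat, mul_inv_cancel₀ (by norm_num : (64 : ℂ) ≠ 0),
      one_mul]
    refine Finset.sum_congr rfl fun x _ => ?_
    by_cases hx : x = 1
    · subst hx
      rw [(hvals D).1, OneMemClass.coe_one, ← irr_charDegree_cast, hDconj]
    · rw [show W D x = conj ((χ : G → ℂ) x) from if_neg hx]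
  have hmE : ∀ θ : ↥(S : Subgroup G) → ℂ, IsCharacter ↥(S : Subgroup G) θ →
      ∃ n : ℕ, ∑ x, θ x * W (d : ℂ) x = 64 * (n : ℂ) := by
    intro θ hθ
    obtain ⟨n, hn⟩ := classInner_char_nat (isCharacter_comp hθ pr) (isCharacter_restrict_irr E χ)
    refine ⟨n, ?_⟩
    have h0 : (Nat.card K : ℂ) ≠ 0 := Nat.cast_ne_zero.2 Nat.card_pos.ne'
    rw [← hn, classInner, hcardE, ← Equiv.sum_comp Φ, Fintype.sum_prod_type, Finset.sum_comm]
    have hinner : ∀ s : ↥(S : Subgroup G), ∑ k : K, θ (pr (Φ (k, s))) * conj ((χ : G → ℂ) (Φ (k, s) : G)) =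
        (Nat.card K : ℂ) * (θ s * W (d : ℂ) s) := by
      intro s
      simp only [hprΦ]
      rw [← Finset.mul_sum, mul_left_comm]
      congr 1
      by_cases hs : s = 1
      · subst hs
        rw [(hvals _).1, ← hd, ← mul_assoc, mul_inv_cancel₀ h0, one_mul]
        have hconj : conj (∑ k : K, (χ : G → ℂ) k) = ∑ k : K, (χ : G → ℂ) k := by
          have : ∑ k : K, (χ : G → ℂ) k = (Nat.card K : ℂ) * (d : ℂ) := by
            rw [← hd, ← mul_assoc, mul_inv_cancel₀ h0, one_mul]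
          rw [this, map_mul, map_natCast, map_natCast]
        rw [← hconj, map_sum]
        exact Finset.sum_congr rfl fun k _ => by
          show conj ((χ : G → ℂ) ((k : G) * ((1 : ↥(S : Subgroup G)) : G))) = _
          rw [OneMemClass.coe_one, mul_one]
      · rw [show W (d : ℂ) s = conj ((χ : G → ℂ) s) from if_neg hs, Finset.sum_congr rfl fun k _ =>
          show conj ((χ : G → ℂ) (Φ (k, s) : G)) = conj ((χ : G → ℂ) s) from ?_, Finset.sum_const,
          Finset.card_univ, nsmul_eq_mul, Nat.card_eq_fintype_card]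
        have hk : (s : G)⁻¹ * k * s ∈ theta z := by
          have := (Subgroup.mem_normalizer_iff.mp (inv_mem (hKS s.2)) (k : G)).mp k.2
          rwa [inv_inv] at this
        show conj ((χ : G → ℂ) ((k : G) * s)) = _
        rw [show (k : G) * s = s * ((s : G)⁻¹ * k * s) by group,
          h.value_sylow hM hz hz1 s.2 (fun e => hs (Subtype.ext e)) hk hχ]
    rw [Finset.sum_congr rfl fun s _ => hinner s, ← Finset.mul_sum]
    push_cast
    field_simp
  have hpat := fun X => h.pattern_mult hr0 hr1 hψ0 hψ1 hψs (W X) (hvals X).1 (hvals X).2.1 (hvals X).2.2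
  obtain ⟨q, hq⟩ := hmS _ (isCharacter_of_irr (isIrrCharacter_linear r0))
  obtain ⟨r, hr⟩ := hmS _ isCharacter_one
  obtain ⟨p, hp⟩ := hmS P (isCharacter_of_irr ψ.2)
  obtain ⟨q', hq'⟩ := hmE _ (isCharacter_of_irr (isIrrCharacter_linear r0))
  obtain ⟨r', hr'⟩ := hmE _ isCharacter_one
  obtain ⟨p', hp'⟩ := hmE P (isCharacter_of_irr ψ.2)
  simp only [one_mul] at hr hr'
  rw [(hpat _).2.1] at hq hq'
  rw [(hpat _).1] at hr hr'
  rw [(hpat _).2.2] at hp hp'
  -- the degree exceeds the fixed part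
  have hdle : d ≤ charDegree (χ : G → ℂ) ∧ (χ ≠ oneIrr G → K ≠ ⊥ → d ≠ charDegree (χ : G → ℂ)) := by
    have hcl : IsClassFunction K (fun k : K => (χ : G → ℂ) k) := fun x y => by
      show (χ : G → ℂ) ((y * x * y⁻¹ : K) : G) = (χ : G → ℂ) (x : G)
      rw [Subgroup.coe_mul, Subgroup.coe_mul, Subgroup.coe_inv]
      exact irr_isClassFun χ (x : G) (y : G)
    have hexp := eq_sum_irr hcl
    choose c hc using fun φ : IrrCharacter K => classInner_char_nat (isCharacter_restrict_irr K χ) (isCharacter_of_irr φ.2)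
    choose e he using fun φ : IrrCharacter K => char_one_eq_natCast (isCharacter_of_irr φ.2)
    have h1 : charDegree (χ : G → ℂ) = ∑ φ : IrrCharacter K, c φ * e φ := by
      refine Nat.cast_injective (R := ℂ) ?_
      rw [irr_charDegree_cast, Nat.cast_sum]
      have := congrFun hexp (1 : K)
      simp only [Finset.sum_apply, Pi.smul_apply, smul_eq_mul, OneMemClass.coe_one, hc, he] at this
      rw [this]
      exact Finset.sum_congr rfl fun φ _ => (Nat.cast_mul _ _).symm
    have hc1 : c (oneIrr K) = d ∧ e (oneIrr K) = 1 := by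
      refine ⟨Nat.cast_injective (R := ℂ) ?_, Nat.cast_injective (R := ℂ) ((he _).symm.trans ?_)⟩
      · rw [← hc, ← hd, classInner, show ((oneIrr K : IrrCharacter K) : K → ℂ) = fun _ => 1 from rfl]
        simp
      · simp [show ((oneIrr K : IrrCharacter K) : K → ℂ) = fun _ => 1 from rfl]
    rw [← Finset.add_sum_erase _ _ (Finset.mem_univ (oneIrr K)), hc1.1, hc1.2, mul_one] at h1
    refine ⟨by omega, fun hne hK hdD => hK ?_⟩
    have h0 := Finset.sum_eq_zero_iff.1 (by omega : ∑ φ ∈ Finset.univ.erase (oneIrr K), c φ * e φ = 0)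
    haveI := h.simple
    refine (Subgroup.eq_bot_iff_forall _).2 fun k hk => CfsgLib.KFactThree.faithful hne ?_
    have hk' := congrFun hexp (⟨k, hk⟩ : K)
    simp only [Finset.sum_apply, Pi.smul_apply, smul_eq_mul, hc] at hk'
    rw [hk', Finset.sum_eq_single (oneIrr K), hc1.1, show ((oneIrr K : IrrCharacter K) : K → ℂ) = fun _ => 1 from rfl,
      ← irr_charDegree_cast, hdD]
    · simp
    · intro φ _ hφ
      have he0 : e φ ≠ 0 := fun e0 => Blocks.irr_one_ne_zero φ (by rw [he, e0, Nat.cast_zero])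
      rcases Nat.mul_eq_zero.1 (h0 φ (Finset.mem_erase.2 ⟨hφ, Finset.mem_univ _⟩)) with e1 | e1
      · rw [e1, Nat.cast_zero, zero_mul]
      · exact absurd e1 he0
    · exact fun h => absurd (Finset.mem_univ _) h
  have hmod : (charDegree (χ : G → ℂ) : ℤ) - d = 64 * ((r : ℤ) - r') := by
    refine Int.cast_injective (α := ℂ) ?_
    push_cast
    linear_combination hr - hr'
  refine ⟨p, q, r, d, p', q', r', r - r', ?_, hq, hr, ?_, hq', hr', by omega, fun hne hK => ?_⟩
  · linear_combination (1 / 4 : ℂ) * hp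
  · linear_combination (1 / 4 : ℂ) * hp'
  · have := hdle.2 hne hK
    omega

end Five

end CfsgLib.U34Char
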