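import Cfsg.Agent.Lib.U34Char.Five.Values

/-!
Orthogonality of the columns of the principal block and the products of two involutions.
-/

set_option autoImplicit false
set_option linter.unusedSectionVars false
set_option linter.style.haveILetI false

namespace CfsgLib.U34Char

open Cfsg CfsgLib CfsgLib.CharTheory CfsgLib.Blocks CfsgLib.HallE8 CfsgLib.ZCReduction CfsgLib.PiClosedTwo
open scoped ComplexConjugate

universe u

variable {G : Type u} [Group G] [Fintype G] {M : Ideal AlgInt}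

theorem conj_ind (B : Set (IrrCharacter G)) (χ : IrrCharacter G) : conj (ind B χ) = ind B χ := by
  by_cases hB : χ ∈ B
  · rw [ind_of_mem hB, map_one]
  · rw [ind_of_notMem hB, map_zero]

/-- Structure constants of the class of `t`. -/
theorem card_mul_structure (t y : G) :
    (Nat.card G : ℂ) * ∑ χ : IrrCharacter G, (χ : G → ℂ) t * ((χ : G → ℂ) t / (χ : G → ℂ) 1) * conj ((χ : G → ℂ) y) =
      ∑ g : G, (Nat.card {w : G // w * (g * t * g⁻¹ * t) * w⁻¹ = y} : ℂ) := by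
  rw [Finset.mul_sum, Finset.sum_congr rfl fun (χ : IrrCharacter G) _ => show
    (Nat.card G : ℂ) * ((χ : G → ℂ) t * ((χ : G → ℂ) t / (χ : G → ℂ) 1) * conj ((χ : G → ℂ) y)) =
    ∑ g : G, (χ : G → ℂ) (g * t * g⁻¹ * t) * conj ((χ : G → ℂ) y) by
      rw [← Finset.sum_mul, ZStar.sum_conj_shift χ t t]; ring]
  rw [Finset.sum_comm]
  exact Finset.sum_congr rfl fun g _ => CfsgLib.E8Solv.sum_irr_eq_card _ _

/-- A product of two conjugates of `t` is inverted by an involution. -/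
theorem inverted_of_product {t g w y : G} (ht : t * t = 1) (hw : w * (g * t * g⁻¹ * t) * w⁻¹ = y) :
    ∃ i : G, i * i = 1 ∧ i * y * i⁻¹ = y⁻¹ := by
  set i := w * (g * t * g⁻¹) * w⁻¹ with hi'
  set j := w * t * w⁻¹ with hj'
  have hi : i * i = 1 := by
    rw [hi', show w * (g * t * g⁻¹) * w⁻¹ * (w * (g * t * g⁻¹) * w⁻¹) = w * g * (t * t) * g⁻¹ * w⁻¹ by group, ht]
    group
  have hj : j * j = 1 := by
    rw [hj', show w * t * w⁻¹ * (w * t * w⁻¹) = w * (t * t) * w⁻¹ by group, ht]; group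
  have hij : i * j = y := by rw [← hw, hi', hj']; group
  refine ⟨i, hi, ?_⟩
  rw [← hij, ← mul_assoc i i j, hi, one_mul, inv_eq_of_mul_eq_one_right hi]
  exact eq_inv_of_mul_eq_one_left (by rw [mul_assoc, ← mul_assoc i, hi, one_mul, hj])

namespace Five

variable {S : Sylow 2 G} {f z : G}

/-- A column averaged over the core paired with the column of `v`. -/
theorem pair_coset (h : Conf S) (hf : Five S f) (hM : IsPModular 2 M) (hz : z ∈ four S) (hz1 : z ≠ 1)
    [Fintype (theta z)] (i : ℕ) (v : G) :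
    ∑ χ : IrrCharacter G, ind (principalBlock M G) χ * (χ : G → ℂ) (z * f ^ i) * conj ((χ : G → ℂ) v) =
      (Nat.card (theta z) : ℂ)⁻¹ *
        ((∑ k : theta z, Nat.card {g : G // g * (z * (f ^ i * k)) * g⁻¹ = v} : ℕ) : ℂ) := by
  simp only [← avg_coset h hf hM hz hz1 i, Finset.mul_sum, Finset.sum_mul, Nat.cast_sum]
  rw [Finset.sum_comm]
  refine Finset.sum_congr rfl fun k _ => ?_
  rw [Finset.sum_congr rfl fun χ _ => mul_assoc _ _ _, ← Finset.mul_sum, CfsgLib.E8Solv.sum_irr_eq_card]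

theorem orth_cols (h : Conf S) (hf : Five S f) (hM : IsPModular 2 M) (hz : z ∈ four S) (hz1 : z ≠ 1) {i j : ℕ}
    (hi : i < 5) (hj : j < 5) :
    ∑ χ : IrrCharacter G, ind (principalBlock M G) χ * (χ : G → ℂ) (z * f ^ i) * conj ((χ : G → ℂ) (z * f ^ j)) =
      if i = j then (if i = 0 then 320 else 20) else 0 := by
  classical
  rw [pair_coset h hf hM hz hz1, count_coset h hf hz, count h hf hz hz1 hi hj, Nat.cast_mul,
    inv_mul_cancel_left₀ (Nat.cast_ne_zero.2 Nat.card_pos.ne')]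
  split_ifs <;> simp

theorem orth_mixed (h : Conf S) (hf : Five S f) (hM : IsPModular 2 M) (hz : z ∈ four S) (hz1 : z ≠ 1) (i : ℕ)
    {u : G} (hu : u ∈ (S : Subgroup G)) (huV : u ∉ four S) :
    ∑ χ : IrrCharacter G, ind (principalBlock M G) χ * (χ : G → ℂ) (z * f ^ i) * conj ((χ : G → ℂ) u) = 0 := by
  classical
  rw [pair_coset h hf hM hz hz1, Finset.sum_eq_zero fun k _ => ?_, Nat.cast_zero, mul_zero]
  haveI : IsEmpty {g : G // g * (z * (f ^ i * k)) * g⁻¹ = u} :=
    ⟨fun g => hf.not_conj_noncentral h hz (pow_mem_oddGrp i k.2) hu huV g.2⟩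
  exact Nat.card_of_isEmpty

theorem orth_deg (h : Conf S) (hf : Five S f) (hM : IsPModular 2 M) (hz : z ∈ four S) (hz1 : z ≠ 1) (i : ℕ) :
    ∑ χ : IrrCharacter G, ind (principalBlock M G) χ * (χ : G → ℂ) (z * f ^ i) * (χ : G → ℂ) 1 = 0 := by
  classical
  rw [Finset.sum_congr rfl fun χ _ => by rw [← irr_one_conj χ], pair_coset h hf hM hz hz1,
    Finset.sum_eq_zero fun k _ => ?_, Nat.cast_zero, mul_zero]
  haveI : IsEmpty {g : G // g * (z * (f ^ i * k)) * g⁻¹ = 1} := ⟨fun g => hz1 (by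
    rw [← hf.pow_card h hz (pow_mem_oddGrp i k.2), conj_eq_one_iff.1 g.2, one_pow])⟩
  exact Nat.card_of_isEmpty

theorem avg_noncentral_pair (h : Conf S) (hM : IsPModular 2 M) {u : G} (hu : u ∈ (S : Subgroup G))
    (huV : u ∉ four S) [Fintype ((theta (u * u)).subgroupOf (Subgroup.centralizer ({u} : Set G)))] (v : G) :
    ∑ χ : IrrCharacter G, ind (principalBlock M G) χ * (χ : G → ℂ) u * conj ((χ : G → ℂ) v) =
      (Nat.card ((theta (u * u)).subgroupOf (Subgroup.centralizer ({u} : Set G))) : ℂ)⁻¹ *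
        ((∑ k : (theta (u * u)).subgroupOf (Subgroup.centralizer ({u} : Set G)),
          Nat.card {g : G // g * (u * ((k : Subgroup.centralizer ({u} : Set G)) : G)) * g⁻¹ = v} : ℕ) : ℂ) := by
  simp only [← avg_noncentral h hM hu huV, Finset.mul_sum, Finset.sum_mul, Nat.cast_sum]
  rw [Finset.sum_comm]
  refine Finset.sum_congr rfl fun k _ => ?_
  rw [Finset.sum_congr rfl fun χ _ => mul_assoc _ _ _, ← Finset.mul_sum, CfsgLib.E8Solv.sum_irr_eq_card]

/-- The odd power isolating an element of order four. -/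
theorem isolate {u : G} (hu : IsTwoEl u) {N : Subgroup (Subgroup.centralizer ({u} : Set G))}
    (hN : ¬ 2 ∣ Nat.card N) :
    ∃ e : ℕ, u ^ e = u ∧ ∀ k ∈ N, (u * ((k : Subgroup.centralizer ({u} : Set G)) : G)) ^ e = u := by
  obtain ⟨n, hn'⟩ := hu
  obtain ⟨e, he1, he0⟩ := Nat.chineseRemainder (n := 2 ^ n) (m := Nat.card N)
    ((Nat.prime_two.coprime_iff_not_dvd.mpr hN).pow_left _) 1 0
  have hu0 : u ^ 2 ^ n = 1 := by rw [← hn', pow_orderOf_eq_one]
  refine ⟨e, (pow_part (Commute.one_right u) hu0 (one_pow (Nat.card N)) he1 (Nat.modEq_zero_iff_dvd.mp he0)).2,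
    fun k hk => (pow_part (Subgroup.mem_centralizer_singleton_iff.1 k.2).symm hu0 ?_ he1
      (Nat.modEq_zero_iff_dvd.mp he0)).1⟩
  have h1 : (⟨k, hk⟩ : N) ^ Nat.card N = 1 := pow_card_eq_one'
  exact congrArg (fun w : N => ((w : Subgroup.centralizer ({u} : Set G)) : G)) h1

theorem orth_noncentral (h : Conf S) (hM : IsPModular 2 M) {u : G} (hu : u ∈ (S : Subgroup G))
    (huV : u ∉ four S) :
    ∑ χ : IrrCharacter G, ind (principalBlock M G) χ * (χ : G → ℂ) u * conj ((χ : G → ℂ) u) = 16 := by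
  classical
  obtain ⟨hn, hodd, -, hcard⟩ := h.cent_noncentral_data hu huV
  set O := (theta (u * u)).subgroupOf (Subgroup.centralizer ({u} : Set G))
  haveI := Fintype.ofFinite O
  obtain ⟨e, he, hek⟩ := isolate (isTwoEl_of_sylow S hu) hodd
  rw [avg_noncentral_pair h hM hu huV, Finset.sum_eq_single (1 : O)]
  · have h1 : Nat.card {g : G // g * (u * (((1 : O) : Subgroup.centralizer ({u} : Set G)) : G)) * g⁻¹ = u} =
        Nat.card (Subgroup.centralizer ({u} : Set G)) := by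
      refine Nat.card_congr (Equiv.subtypeEquivRight fun g => ?_)
      rw [OneMemClass.coe_one, OneMemClass.coe_one, mul_one, Subgroup.mem_centralizer_singleton_iff]
      exact mul_inv_eq_iff_eq_mul
    rw [h1, hcard, Nat.cast_mul, inv_mul_cancel_left₀ (Nat.cast_ne_zero.2 Nat.card_pos.ne')]
    norm_num
  · intro k _ hk
    haveI : IsEmpty {g : G // g * (u * ((k : Subgroup.centralizer ({u} : Set G)) : G)) * g⁻¹ = u} := by
      refine ⟨fun ⟨g, hg⟩ => hk ?_⟩
      have h1 := congrArg (· ^ e) hg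
      simp only [conj_pow, he, hek k k.2] at h1
      have h2 : g * (u * ((k : Subgroup.centralizer ({u} : Set G)) : G)) * g⁻¹ = g * u * g⁻¹ := hg.trans h1.symm
      exact Subtype.ext (Subtype.ext (mul_eq_left.mp (mul_left_cancel (mul_right_cancel h2))))
    exact Nat.card_of_isEmpty
  · exact fun h => absurd (Finset.mem_univ _) h

theorem orth_noncentral_deg (h : Conf S) (hM : IsPModular 2 M) {u : G} (hu : u ∈ (S : Subgroup G))
    (huV : u ∉ four S) :
    ∑ χ : IrrCharacter G, ind (principalBlock M G) χ * (χ : G → ℂ) u * (χ : G → ℂ) 1 = 0 := by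
  classical
  obtain ⟨hn, hodd, -, -⟩ := h.cent_noncentral_data hu huV
  haveI := Fintype.ofFinite ((theta (u * u)).subgroupOf (Subgroup.centralizer ({u} : Set G)))
  rw [Finset.sum_congr rfl fun χ _ => by rw [← irr_one_conj χ], avg_noncentral_pair h hM hu huV,
    Finset.sum_eq_zero fun k _ => ?_, Nat.cast_zero, mul_zero]
  obtain ⟨e, he, hek⟩ := isolate (isTwoEl_of_sylow S hu) hodd
  haveI : IsEmpty {g : G // g * (u * ((k : Subgroup.centralizer ({u} : Set G)) : G)) * g⁻¹ = 1} := ⟨fun g => huV (by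
    rw [← hek k k.2, conj_eq_one_iff.1 g.2, one_pow]; exact one_mem _)⟩
  exact Nat.card_of_isEmpty

/-- No product of two involutions meets an element of order four. -/
theorem square_noncentral (h : Conf S) (hM : IsPModular 2 M) {u : G} (hu : u ∈ (S : Subgroup G))
    (huV : u ∉ four S) {t : G} (ht : t * t = 1) :
    ∑ χ : IrrCharacter G, ind (principalBlock M G) χ * conj ((χ : G → ℂ) u) *
      ((χ : G → ℂ) t * ((χ : G → ℂ) t / (χ : G → ℂ) 1)) = 0 := by
  classical
  obtain ⟨hn, hodd, -, -⟩ := h.cent_noncentral_data hu huV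
  set O := (theta (u * u)).subgroupOf (Subgroup.centralizer ({u} : Set G))
  haveI := Fintype.ofFinite O
  obtain ⟨e, he, hek⟩ := isolate (isTwoEl_of_sylow S hu) hodd
  have hk : ∀ k : O, ∑ χ : IrrCharacter G, (χ : G → ℂ) t * ((χ : G → ℂ) t / (χ : G → ℂ) 1) *
      conj ((χ : G → ℂ) (u * ((k : Subgroup.centralizer ({u} : Set G)) : G))) = 0 := by
    intro k
    refine mul_left_cancel₀ (Nat.cast_ne_zero.2 (Nat.card_pos (α := G)).ne' : (Nat.card G : ℂ) ≠ 0) ?_
    rw [mul_zero, card_mul_structure]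
    refine Finset.sum_eq_zero fun g _ => ?_
    haveI : IsEmpty {w : G // w * (g * t * g⁻¹ * t) * w⁻¹ = u * ((k : Subgroup.centralizer ({u} : Set G)) : G)} :=
      ⟨fun ⟨w, hw⟩ => by
        obtain ⟨i, hi, hinv⟩ := inverted_of_product ht hw
        have h2 := congrArg (· ^ e) hinv
        simp only [conj_pow, inv_pow, hek k k.2] at h2
        exact h.no_invert hu huV hi h2⟩
    rw [Nat.card_of_isEmpty, Nat.cast_zero]
  rw [Finset.sum_congr rfl fun (χ : IrrCharacter G) _ => show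
    ind (principalBlock M G) χ * conj ((χ : G → ℂ) u) * ((χ : G → ℂ) t * ((χ : G → ℂ) t / (χ : G → ℂ) 1)) =
    ∑ k : O, (Nat.card O : ℂ)⁻¹ * ((χ : G → ℂ) t * ((χ : G → ℂ) t / (χ : G → ℂ) 1) *
      conj ((χ : G → ℂ) (u * ((k : Subgroup.centralizer ({u} : Set G)) : G)))) by
    rw [← conj_ind, ← map_mul, ← avg_noncentral h hM hu huV, map_mul, map_inv₀, map_natCast, map_sum,
      ← Finset.mul_sum, ← Finset.mul_sum, mul_assoc, mul_comm (∑ k : O, _)]]
  rw [Finset.sum_comm]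
  exact Finset.sum_eq_zero fun k _ => by rw [← Finset.mul_sum, hk k, mul_zero]

theorem square_coset (h : Conf S) (hf : Five S f) (hM : IsPModular 2 M) (hz : z ∈ four S) (hz1 : z ≠ 1)
    [Fintype (theta z)] (i : ℕ) :
    ∑ χ : IrrCharacter G, ind (principalBlock M G) χ * conj ((χ : G → ℂ) (z * f ^ i)) *
      ((χ : G → ℂ) z * ((χ : G → ℂ) z / (χ : G → ℂ) 1)) =
    (Nat.card (theta z) : ℂ)⁻¹ * (Nat.card G : ℂ)⁻¹ *
      ((∑ k : theta z, ∑ g : G, Nat.card {w : G // w * (g * z * g⁻¹ * z) * w⁻¹ = z * (f ^ i * k)} : ℕ) : ℂ) := by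
  classical
  rw [Finset.sum_congr rfl fun (χ : IrrCharacter G) _ => show
    ind (principalBlock M G) χ * conj ((χ : G → ℂ) (z * f ^ i)) * ((χ : G → ℂ) z * ((χ : G → ℂ) z / (χ : G → ℂ) 1)) =
    ∑ k : theta z, (Nat.card (theta z) : ℂ)⁻¹ * ((χ : G → ℂ) z * ((χ : G → ℂ) z / (χ : G → ℂ) 1) *
      conj ((χ : G → ℂ) (z * (f ^ i * k)))) by
    rw [← conj_ind, ← map_mul, ← avg_coset h hf hM hz hz1 i, map_mul, map_inv₀, map_natCast, map_sum,
      ← Finset.mul_sum, ← Finset.mul_sum, mul_assoc, mul_comm (∑ k : theta z, _)]]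
  rw [Finset.sum_comm, Nat.cast_sum, Finset.mul_sum]
  refine Finset.sum_congr rfl fun k _ => ?_
  rw [← Finset.mul_sum, mul_assoc, Nat.cast_sum, ← card_mul_structure z (z * (f ^ i * k)),
    inv_mul_cancel_left₀ (Nat.cast_ne_zero.2 (Nat.card_pos (α := G)).ne')]

theorem square_zero (h : Conf S) (hf : Five S f) (hM : IsPModular 2 M) (hz : z ∈ four S) (hz1 : z ≠ 1) {j : ℕ}
    (hj0 : j ≠ 0) (hj : j < 5) :
    ∑ χ : IrrCharacter G, ind (principalBlock M G) χ * conj ((χ : G → ℂ) (z * f ^ j)) *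
      ((χ : G → ℂ) z * ((χ : G → ℂ) z / (χ : G → ℂ) 1)) = 0 := by
  classical
  rw [square_coset h hf hM hz hz1, Finset.sum_eq_zero fun k _ => Finset.sum_eq_zero fun g _ => ?_, Nat.cast_zero,
    mul_zero]
  haveI : IsEmpty {w : G // w * (g * z * g⁻¹ * z) * w⁻¹ = z * (f ^ j * k)} := ⟨fun ⟨w, hw⟩ => by
    obtain ⟨i, hi, hinv⟩ := inverted_of_product (h.four_sq hz) hw
    exact no_product h hf hz hz1 hj0 hj k.2 hi hinv⟩
  exact Nat.card_of_isEmpty

theorem square_pos (h : Conf S) (hf : Five S f) (hM : IsPModular 2 M) (hz : z ∈ four S) (hz1 : z ≠ 1) :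
    ∃ r : ℝ, 0 < r ∧ ∑ χ : IrrCharacter G, ind (principalBlock M G) χ * conj ((χ : G → ℂ) (z * f ^ 0)) *
      ((χ : G → ℂ) z * ((χ : G → ℂ) z / (χ : G → ℂ) 1)) = (r : ℂ) := by
  classical
  refine ⟨(Nat.card (theta z) : ℝ)⁻¹ * (Nat.card G : ℝ)⁻¹ *
    ((∑ k : theta z, ∑ g : G, Nat.card {w : G // w * (g * z * g⁻¹ * z) * w⁻¹ = z * (f ^ 0 * k)} : ℕ) : ℝ), ?_, ?_⟩
  · refine mul_pos (mul_pos (inv_pos.2 (Nat.cast_pos.2 Nat.card_pos)) (inv_pos.2 (Nat.cast_pos.2 Nat.card_pos)))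
      (Nat.cast_pos.2 ?_)
    obtain ⟨n, hn, hne⟩ := h.exists_moved hz hz1
    set z' := n * z * n⁻¹
    have hz' : z' ∈ four S := (Subgroup.mem_normalizer_iff.mp (h.sylow_normalizer_le hn) z).mp hz
    have h1 : z' * z ≠ 1 := fun e => hne ((eq_inv_of_mul_eq_one_left e).trans
      (inv_eq_of_mul_eq_one_right (h.four_sq hz)))
    obtain ⟨w, -, hw⟩ := h.exists_conj_four (mul_mem hz' hz) h1 hz hz1
    haveI : Nonempty {w : G // w * (n * z * n⁻¹ * z) * w⁻¹ = z * (f ^ 0 * ((1 : theta z) : G))} :=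
      ⟨⟨w, by rw [hw]; simp⟩⟩
    refine lt_of_lt_of_le (Nat.card_pos (α := {w : G // w * (n * z * n⁻¹ * z) * w⁻¹ = z * (f ^ 0 * ((1 : theta z) : G))}))
      (le_trans ?_ (Finset.single_le_sum (f := fun k : theta z => ∑ g : G,
        Nat.card {w : G // w * (g * z * g⁻¹ * z) * w⁻¹ = z * (f ^ 0 * k)}) (fun _ _ => Nat.zero_le _)
        (Finset.mem_univ (1 : theta z))))
    exact Finset.single_le_sum (f := fun g : G => Nat.card {w : G // w * (g * z * g⁻¹ * z) * w⁻¹ =
      z * (f ^ 0 * ((1 : theta z) : G))}) (fun _ _ => Nat.zero_le _) (Finset.mem_univ n)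
  · rw [square_coset h hf hM hz hz1, Complex.ofReal_mul, Complex.ofReal_mul, Complex.ofReal_inv,
      Complex.ofReal_inv, Complex.ofReal_natCast, Complex.ofReal_natCast, Complex.ofReal_natCast]

end Five

end CfsgLib.U34Char
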