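import Cfsg.Agent.Lib.U34Char.Five.Local
import Cfsg.Agent.Lib.PiClosedTwo.Columns

/-!
Values of the characters of the principal block at elements with a nontrivial `2`-part.
-/

set_option autoImplicit false
set_option linter.unusedSectionVars false
set_option linter.style.haveILetI false

namespace CfsgLib.U34Char

open Cfsg CfsgLib CfsgLib.CharTheory CfsgLib.Blocks CfsgLib.HallE8 CfsgLib.ZCReduction CfsgLib.PiClosedTwo
open scoped ComplexConjugate commutatorElement

universe u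

variable {G : Type u} [Group G] [Fintype G] {M : Ideal AlgInt}

/-- A character of the principal block does not see the odd core of a centralizer of a `2`-element. -/
theorem principal_pointwise (hM : IsPModular 2 M) {x : G} (hx : IsTwoEl x)
    (N : Subgroup (Subgroup.centralizer ({x} : Set G))) [N.Normal] (hN : ¬ 2 ∣ Nat.card N)
    {y n : Subgroup.centralizer ({x} : Set G)} (hn : n ∈ N) (hy : Odd (orderOf y)) (hyn : Odd (orderOf (y * n)))
    {χ : IrrCharacter G} (hχ : χ ∈ principalBlock M G) :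
    (χ : G → ℂ) (x * ((y * n : Subgroup.centralizer ({x} : Set G)) : G)) = (χ : G → ℂ) (x * (y : G)) := by
  classical
  haveI : Fact (Nat.Prime 2) := ⟨Nat.prime_two⟩
  let H := Subgroup.centralizer ({x} : Set G)
  haveI : Fintype H := Fintype.ofFinite _
  have hH : IsCentr x H := isCentr_singleton x
  have hx' : ∃ k : ℕ, orderOf x = 2 ^ k := hx
  have hnd : ∀ {w : H}, Odd (orderOf w) → ¬ 2 ∣ orderOf w := fun hw e =>
    Nat.not_even_iff_odd.mpr hw (even_iff_two_dvd.mpr e)
  have h1 := sec_eq_overBlocks hM hH hx' (principalBlock_isPBlock (M := M)) χ (hnd hyn)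
  have h2 := sec_eq_overBlocks hM hH hx' (principalBlock_isPBlock (M := M)) χ (hnd hy)
  rw [overBlocks_principal hM hH hx', ind_of_mem hχ, one_mul, blockPart_apply, ← sum_ind_mul] at h1 h2
  rw [← h1, ← h2]
  refine Finset.sum_congr rfl fun ψ _ => ?_
  by_cases hψ : ψ ∈ principalBlock M H
  · obtain ⟨ψ', -, he⟩ := exists_quotient_irr N ψ.2 fun m hm => principal_kernel hM hN hψ hm
    rw [he]
    simp only [QuotientGroup.mk_mul, (QuotientGroup.eq_one_iff n).2 hn, mul_one]
  · simp [ind_of_notMem hψ]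

/-- Averaging over an odd normal subgroup whose quotient has a self-centralizing normal `2`-subgroup. -/
theorem principal_coset_avg (hM : IsPModular 2 M) {x : G} (hx : IsTwoEl x)
    (O : Subgroup (Subgroup.centralizer ({x} : Set G))) [O.Normal] [Fintype O] (hO : ¬ 2 ∣ Nat.card O)
    (P : Subgroup (Subgroup.centralizer ({x} : Set G) ⧸ O)) [P.Normal] (hP : IsPGroup 2 P)
    (hCP : Subgroup.centralizer (P : Set (Subgroup.centralizer ({x} : Set G) ⧸ O)) ≤ P)
    {w : Subgroup.centralizer ({x} : Set G)} (hw : Odd (orderOf w)) (χ : IrrCharacter G) :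
    (Nat.card O : ℂ)⁻¹ * ∑ k : O, (χ : G → ℂ) (x * (((k : Subgroup.centralizer ({x} : Set G)) * w :
        Subgroup.centralizer ({x} : Set G)) : G)) =
      ind (principalBlock M G) χ * (χ : G → ℂ) (x * (w : G)) := by
  classical
  haveI : Fact (Nat.Prime 2) := ⟨Nat.prime_two⟩
  let H := Subgroup.centralizer ({x} : Set G)
  haveI : Fintype H := Fintype.ofFinite _
  have hH : IsCentr x H := isCentr_singleton x
  have hx' : ∃ k : ℕ, orderOf x = 2 ^ k := hx
  have hU : ∀ ψ : IrrCharacter H, ψ ∈ principalBlock M H ↔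
      ∀ n ∈ O, (ψ : H → ℂ) n = (ψ : H → ℂ) 1 := by
    intro ψ
    refine ⟨fun h n hn => principal_kernel hM hO h hn, fun h => ?_⟩
    haveI := Fintype.ofFinite (H ⧸ O)
    obtain ⟨ψ', hψ', he⟩ := exists_quotient_irr O ψ.2 h
    obtain ⟨ω, hω, he1⟩ := exists_quotient_irr O (oneIrr H).2 fun _ _ => rfl
    have e1 : Inflation.inflIrr O ⟨ψ', hψ'⟩ = ψ := Subtype.ext he.symm
    have e2 : Inflation.inflIrr O ⟨ω, hω⟩ = oneIrr H := Subtype.ext he1.symm
    show SameBlock M ((oneIrr H : IrrCharacter H) : H → ℂ) (ψ : H → ℂ)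
    rw [← e1, ← e2, sameBlock_iff_res hM]
    intro g
    exact Inflation.res_clv_ascend hM O g ((sameBlock_iff_res hM _ _).1
      (Blocks.sameBlock_all hM P hP hCP ⟨ω, hω⟩ ⟨ψ', hψ'⟩) _)
  have h1 := sec_eq_overBlocks hM hH hx' (principalBlock_isPBlock (M := M)) χ (y := w)
    (fun e => Nat.not_even_iff_odd.mpr hw (even_iff_two_dvd.mpr e))
  rw [overBlocks_principal hM hH hx'] at h1
  rw [← h1]
  have hexp := eq_sum_irr (sec_isClassFunction hH χ)
  have hψ : ∀ ψ : IrrCharacter H, (Nat.card O : ℂ)⁻¹ * ∑ k : O, (ψ : H → ℂ) ((k : H) * w) =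
      ind (principalBlock M H) ψ * (ψ : H → ℂ) w := by
    intro ψ
    have h3 := sum_classFun_mul_shift (avgFn_isClassFunction O) ψ w
    have h4 : ∑ y : H, avgFn O y * (ψ : H → ℂ) (y * w) =
        (Nat.card O : ℂ)⁻¹ * ∑ k : O, (ψ : H → ℂ) ((k : H) * w) := by
      rw [Finset.mul_sum, ← Finset.sum_subset (Finset.subset_univ (Finset.univ.filter (· ∈ O)))
        (fun y _ hy => by rw [avgFn, if_neg (by simpa using hy), zero_mul])]
      rw [← Finset.sum_subtype_eq_sum_filter, Finset.subtype_univ]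
      refine Finset.sum_congr (by ext; simp) fun k _ => ?_
      rw [avgFn, if_pos k.2]
    rw [← h4, h3]
    congr 1
    by_cases hψ : ψ ∈ principalBlock M H
    · rw [ind_of_mem hψ, (omega_avgFn O ψ).2.2 ((hU ψ).1 hψ)]
    · rw [ind_of_notMem hψ]
      exact (omega_avgFn O ψ).1.resolve_right fun h5 => hψ ((hU ψ).2 ((omega_avgFn O ψ).2.1 h5))
  show (Nat.card O : ℂ)⁻¹ * ∑ k : O, sec x H (χ : G → ℂ) ((k : H) * w) = _
  rw [blockPart_apply, ← sum_ind_mul]
  conv_lhs => rw [hexp]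
  simp only [Finset.sum_apply, Pi.smul_apply, smul_eq_mul]
  rw [Finset.sum_comm, Finset.mul_sum]
  refine Finset.sum_congr rfl fun ψ _ => ?_
  rw [← Finset.mul_sum, mul_left_comm, hψ ψ]
  ring

namespace Five

variable {S : Sylow 2 G} {f z : G}

theorem isTwoEl (h : Conf S) (hz : z ∈ four S) : IsTwoEl z := isTwoEl_of_sylow S (h.four_le hz)

/-- The average over the coset of the core. -/
theorem avg_coset (h : Conf S) (hf : Five S f) (hM : IsPModular 2 M) (hz : z ∈ four S) (hz1 : z ≠ 1) (i : ℕ)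
    [Fintype (theta z)] (χ : IrrCharacter G) :
    (Nat.card (theta z) : ℂ)⁻¹ * ∑ k : theta z, (χ : G → ℂ) (z * (f ^ i * k)) =
      ind (principalBlock M G) χ * (χ : G → ℂ) (z * f ^ i) := by
  classical
  haveI : Fact (Nat.Prime 2) := ⟨Nat.prime_two⟩
  set C := Subgroup.centralizer ({z} : Set G)
  set O := (theta z).subgroupOf C
  haveI : O.Normal := (Subgroup.normal_subgroupOf_iff_le_normalizer (theta_le_cent z)).mpr (theta_normalized z)
  haveI : Fintype O := Fintype.ofFinite _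
  let π := QuotientGroup.mk' O
  let incl : ↥(S : Subgroup G) →* C := Subgroup.inclusion (sylow_le h hz)
  set P := (π.comp incl).range
  have hmem : ∀ c : C, π c = 1 ↔ (c : G) ∈ theta z := fun c => QuotientGroup.eq_one_iff c
  haveI : P.Normal := by
    refine ⟨?_⟩
    rintro _ ⟨s, rfl⟩ q
    obtain ⟨g, rfl⟩ := QuotientGroup.mk'_surjective O q
    obtain ⟨o, ho, l, -, t, ht, e⟩ := hf.decomp z hz hz1 g g.2
    set b := f ^ l * t with hb
    have hbN : b ∈ Subgroup.normalizer ((S : Subgroup G) : Set G) :=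
      mul_mem (pow_mem hf.mem.1 l) (Subgroup.le_normalizer ht)
    refine ⟨⟨b * s * b⁻¹, (Subgroup.mem_normalizer_iff.mp hbN s).mp s.2⟩, ?_⟩
    have hgq : π g = π ⟨b, mul_mem (hf.pow_mem_cent hz l) (sylow_le h hz ht)⟩ := by
      have e' : g = ⟨o, theta_le_cent z ho⟩ * ⟨b, mul_mem (hf.pow_mem_cent hz l) (sylow_le h hz ht)⟩ :=
        Subtype.ext (e.trans (mul_assoc _ _ _))
      rw [e', map_mul, (hmem ⟨o, theta_le_cent z ho⟩).2 ho, one_mul]
    show π (incl _) = π g * π (incl s) * (π g)⁻¹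
    rw [hgq, ← map_mul, ← map_inv, ← map_mul]
    exact congrArg π (Subtype.ext rfl)
  have hP : IsPGroup 2 P := by
    rintro ⟨_, s, rfl⟩
    obtain ⟨k, hk⟩ := isTwoEl_of_sylow S s.2
    exact ⟨k, Subtype.ext (by
      rw [SubmonoidClass.coe_pow, ← map_pow, show s ^ 2 ^ k = 1 from Subtype.ext (by
        rw [SubmonoidClass.coe_pow, ← hk, pow_orderOf_eq_one, OneMemClass.coe_one]), map_one,
        OneMemClass.coe_one])⟩
  have hCP : Subgroup.centralizer (P : Set (C ⧸ O)) ≤ P := by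
    intro q hq
    obtain ⟨g, rfl⟩ := QuotientGroup.mk'_surjective O q
    obtain ⟨o, ho, l, hl, t, ht, e⟩ := hf.decomp z hz hz1 g g.2
    obtain ⟨u, hu, huV⟩ := h.exists_noncentral
    set b := f ^ l * t with hb
    have hbN : b ∈ Subgroup.normalizer ((S : Subgroup G) : Set G) :=
      mul_mem (pow_mem hf.mem.1 l) (Subgroup.le_normalizer ht)
    have hbC : b ∈ C := mul_mem (hf.pow_mem_cent hz l) (sylow_le h hz ht)
    have hgq : π g = π ⟨b, hbC⟩ := by
      have e' : g = ⟨o, theta_le_cent z ho⟩ * ⟨b, hbC⟩ :=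
        Subtype.ext (e.trans (mul_assoc _ _ _))
      rw [e', map_mul, (hmem ⟨o, theta_le_cent z ho⟩).2 ho, one_mul]
    rw [hgq] at hq ⊢
    have hbu : b * u * b⁻¹ ∈ (S : Subgroup G) := (Subgroup.mem_normalizer_iff.mp hbN u).mp hu
    have h1 : u * (b * u * b⁻¹)⁻¹ = 1 := by
      refine sylow_theta (z := z) h (mul_mem hu (inv_mem hbu)) ?_
      have h2 : π ⟨u, sylow_le h hz hu⟩ * π ⟨b, hbC⟩ = π ⟨b, hbC⟩ * π ⟨u, sylow_le h hz hu⟩ :=
        Subgroup.mem_centralizer_iff.mp hq _ ⟨⟨u, hu⟩, rfl⟩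
      have h3 : π (⟨u, sylow_le h hz hu⟩ * (⟨b, hbC⟩ * ⟨u, sylow_le h hz hu⟩ * ⟨b, hbC⟩⁻¹)⁻¹) = 1 := by
        rw [map_mul, map_inv, map_mul, map_mul, map_inv, ← h2, mul_inv_cancel_right, mul_inv_cancel]
      exact (hmem _).1 h3
    have hl0 : l = 0 := by
      by_contra hl0
      refine hf.free l (fun ⟨c, hc⟩ => by omega) u hu huV ?_
      have e3 : f ^ l * u * (f ^ l)⁻¹ * u⁻¹ = f ^ l * ⁅u, t⁆ * (f ^ l)⁻¹ := by
        rw [commutatorElement_def]
        calc f ^ l * u * (f ^ l)⁻¹ * u⁻¹ = f ^ l * u * (f ^ l)⁻¹ * (b * u * b⁻¹)⁻¹ := by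
              rw [← mul_inv_eq_one.1 h1]
          _ = _ := by rw [hb]; group
      rw [e3, hf.comm_four l (h.comm_mem hu ht), mul_inv_cancel_right]
      exact h.comm_mem hu ht
    refine ⟨⟨t, ht⟩, congrArg π (Subtype.ext ?_)⟩
    show t = b
    rw [hb, hl0, pow_zero, one_mul]
  have hfC : f ^ i ∈ C := hf.pow_mem_cent hz i
  have hw : Odd (orderOf (⟨f ^ i, hfC⟩ : C)) := by
    rw [Subgroup.orderOf_mk]
    exact Odd.of_dvd_nat hf.odd_f (orderOf_pow_dvd i)
  have hcard : Nat.card O = Nat.card (theta z) :=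
    Nat.card_congr (Subgroup.subgroupOfEquivOfLe (theta_le_cent z)).toEquiv
  have key := principal_coset_avg hM (isTwoEl h hz) O (by rw [hcard]; exact not_two_dvd_theta z) P hP hCP hw χ
  rw [hcard] at key
  rw [← key]
  congr 1
  refine Fintype.sum_bijective (fun k : theta z => (⟨⟨f ^ i * k * (f ^ i)⁻¹,
    theta_le_cent z (hf.conj_theta hz i k.2)⟩, hf.conj_theta hz i k.2⟩ : O)) ⟨?_, ?_⟩ _ _ fun k => ?_
  · intro k k' e
    have e' := congrArg (fun w : O => ((w : C) : G)) e
    exact Subtype.ext (mul_left_cancel (mul_right_cancel e'))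
  · intro w
    refine ⟨⟨(f ^ i)⁻¹ * ((w : C) : G) * f ^ i, ?_⟩, Subtype.ext (Subtype.ext (by group))⟩
    have := (Subgroup.mem_normalizer_iff.mp (inv_mem (theta_normalized z hfC)) _).mp
      (show ((w : C) : G) ∈ theta z from w.2)
    rwa [inv_inv] at this
  · show (χ : G → ℂ) (z * (f ^ i * k)) = (χ : G → ℂ) (z * (f ^ i * k * (f ^ i)⁻¹ * f ^ i))
    rw [inv_mul_cancel_right]

/-- The average at an element of order four. -/
theorem avg_noncentral (h : Conf S) (hM : IsPModular 2 M) {u : G} (hu : u ∈ (S : Subgroup G))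
    (huV : u ∉ four S) [Fintype ((theta (u * u)).subgroupOf (Subgroup.centralizer ({u} : Set G)))]
    (χ : IrrCharacter G) :
    (Nat.card ((theta (u * u)).subgroupOf (Subgroup.centralizer ({u} : Set G))) : ℂ)⁻¹ *
        ∑ k : (theta (u * u)).subgroupOf (Subgroup.centralizer ({u} : Set G)),
          (χ : G → ℂ) (u * ((k : Subgroup.centralizer ({u} : Set G)) : G)) =
      ind (principalBlock M G) χ * (χ : G → ℂ) u := by
  obtain ⟨hn, hodd, hq, -⟩ := h.cent_noncentral_data hu huV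
  haveI := hn
  exact block_avg hM (isTwoEl_of_sylow S hu) _ hodd hq χ

/-- The values over `z f ^ i` depend only on `i` modulo five. -/
theorem value_coset (h : Conf S) (hf : Five S f) (hM : IsPModular 2 M) (hz : z ∈ four S) (i : ℕ) {k : G}
    (hk : k ∈ theta z) {χ : IrrCharacter G} (hχ : χ ∈ principalBlock M G) :
    (χ : G → ℂ) (z * (f ^ i * k)) = (χ : G → ℂ) (z * f ^ i) := by
  set C := Subgroup.centralizer ({z} : Set G)
  haveI : ((theta z).subgroupOf C).Normal :=
    (Subgroup.normal_subgroupOf_iff_le_normalizer (theta_le_cent z)).mpr (theta_normalized z)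
  have hfC : f ^ i ∈ C := hf.pow_mem_cent hz i
  exact principal_pointwise hM (isTwoEl h hz) ((theta z).subgroupOf C)
    (fun e => not_two_dvd_theta z (e.trans (dvd_of_eq
      (Nat.card_congr (Subgroup.subgroupOfEquivOfLe (theta_le_cent z)).toEquiv))))
    (y := ⟨f ^ i, hfC⟩) (n := ⟨k, theta_le_cent z hk⟩) hk
    (by rw [Subgroup.orderOf_mk]; exact Odd.of_dvd_nat hf.odd_f (orderOf_pow_dvd i))
    (by
      rw [← Subgroup.orderOf_coe]
      exact hf.orderOf_odd hz (pow_mem_oddGrp i hk)) hχ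

theorem value_mod (h : Conf S) (hf : Five S f) (hM : IsPModular 2 M) (hz : z ∈ four S) (hz1 : z ≠ 1) (i : ℕ)
    {χ : IrrCharacter G} (hχ : χ ∈ principalBlock M G) :
    (χ : G → ℂ) (z * f ^ i) = (χ : G → ℂ) (z * f ^ (i % 5)) := by
  obtain ⟨o, ho, e⟩ := hf.pow_mod hz hz1 i
  rw [e, value_coset h hf hM hz _ ho hχ]

end Five

namespace Conf

variable {S : Sylow 2 G}

/-- On the cosets of the core the values at elements of `S` are constant. -/
theorem value_sylow (h : Conf S) (hM : IsPModular 2 M) {z s k : G} (hz : z ∈ four S) (hz1 : z ≠ 1)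
    (hs : s ∈ (S : Subgroup G)) (hs1 : s ≠ 1) (hk : k ∈ theta z) {χ : IrrCharacter G}
    (hχ : χ ∈ principalBlock M G) : (χ : G → ℂ) (s * k) = (χ : G → ℂ) s := by
  obtain ⟨x, -, c, hc, hcs, e⟩ := h.exists_fibre hz hs hk
  rw [← irr_isClassFun χ (s * k) x, e]
  obtain ⟨v, hv, hv1, hsv⟩ : ∃ v ∈ four S, v ≠ 1 ∧
      ∀ g, g * s = s * g → g ∈ Subgroup.centralizer ({v} : Set G) := by
    by_cases hsV : s ∈ four S
    · exact ⟨s, hsV, hs1, fun g hg => mem_cent_of_commute hg⟩
    · exact ⟨s * s, h.sq_mem hs, fun e => hsV (h.mem_four_of_sq hs e), fun g hg =>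
        mem_cent_of_commute ((show Commute g s from hg).mul_right hg).eq⟩
  have hcv : c ∈ theta v := h.balance hz hz1 hv hv1 hc (commute_of_mem_cent (hsv c hcs))
  set C := Subgroup.centralizer ({s} : Set G)
  haveI : ((theta v).subgroupOf C).Normal :=
    ⟨fun o ho g => (Subgroup.mem_normalizer_iff.mp (theta_normalized v
      (hsv g (commute_of_mem_cent g.2))) _).mp ho⟩
  have hodd : Odd (orderOf c) :=
    Nat.odd_iff.mpr (Nat.two_dvd_ne_zero.mp fun e => not_two_dvd_theta v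
      (e.trans (Subgroup.orderOf_dvd_natCard _ hcv)))
  have := principal_pointwise hM (isTwoEl_of_sylow S hs) ((theta v).subgroupOf C)
    (fun e => not_two_dvd_theta v (e.trans (Subgroup.card_comap_dvd_of_injective (theta v) C.subtype
      C.subtype_injective)))
    (y := 1) (n := ⟨c, mem_cent_of_commute hcs⟩) hcv (by simp) (by rwa [one_mul, Subgroup.orderOf_mk]) hχ
  simpa using this

theorem value_four (h : Conf S) {v v' : G} (hv : v ∈ four S) (hv1 : v ≠ 1) (hv' : v' ∈ four S) (hv1' : v' ≠ 1)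
    (χ : IrrCharacter G) : (χ : G → ℂ) v' = (χ : G → ℂ) v := by
  obtain ⟨n, -, e⟩ := h.exists_conj_four hv hv1 hv' hv1'
  rw [← e]
  exact irr_isClassFun χ v n

theorem value_noncentral (h : Conf S) {f : G} (hf : Five S f) {u u' : G} (hu : u ∈ (S : Subgroup G))
    (huV : u ∉ four S) (hu' : u' ∈ (S : Subgroup G)) (huV' : u' ∉ four S) (χ : IrrCharacter G) :
    (χ : G → ℂ) u' = (χ : G → ℂ) u := by
  obtain ⟨g, e⟩ := h.exists_conj_noncentral hf hu huV hu' huV'
  rw [← e]
  exact irr_isClassFun χ u g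

end Conf

end CfsgLib.U34Char
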